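import Groth.Agent.HurwitzLib.OmegaLength
import Groth.Agent.CurveVBLib.Basic
import Groth.Agent.NormalLib.Regular
import Groth.Agent.GenusZeroLib.Point

/-!
# Local data of a smooth curve at a closed point
-/

set_option autoImplicit false
set_option linter.style.haveILetI false
set_option linter.unusedSectionVars false
universe u

open CategoryTheory CategoryTheory.Limits AlgebraicGeometry TopologicalSpace
open IsLocalRing KaehlerDifferential

noncomputable section

namespace HurwitzLib

variable {k : Type u} [Field k] {X : Scheme.{u}} [X.Over (Spec (CommRingCat.of k))]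

theorem isNormalScheme_of_smooth [IsIntegral X] [Smooth (X ↘ Spec (CommRingCat.of k))] :
    Pi1.IsNormalScheme X := fun y => by
  haveI := CurveVBLib.regular_stalk (k := k) y
  exact ⟨inferInstance, NormalLib.isIntegrallyClosed_of_isRegularLocalRing _⟩

theorem dvr_stalk_closed [IsIntegral X] [Smooth (X ↘ Spec (CommRingCat.of k))]
    (hdim : topologicalKrullDim X = 1) {x : X} (hx : IsClosed ({x} : Set X)) :
    IsDiscreteValuationRing (X.presheaf.stalk x) := by
  haveI : IsLocallyNoetherian X := LocallyOfFiniteType.isLocallyNoetherian (X ↘ Spec (CommRingCat.of k))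
  exact dvr_stalk hdim.le (isNormalScheme_of_smooth (k := k))
    (GenusZeroLib.ne_genericPoint_of_isClosed hdim hx)

/-- The local ring of a smooth curve at a closed point and its differentials. -/
theorem exists_smooth_data [IsIntegral X] [Smooth (X ↘ Spec (CommRingCat.of k))]
    (hdim : topologicalKrullDim X = 1) {x : X} (hx : IsClosed ({x} : Set X)) :
    letI := Curv2.stalkAlgebra k X x
    Algebra.EssFiniteType k (X.presheaf.stalk x) ∧ Algebra.FormallySmooth k (X.presheaf.stalk x) ∧
      ¬ Algebra.FormallyUnramified k (X.presheaf.stalk x) ∧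
      ∃ T : X.presheaf.stalk x, Submodule.span (X.presheaf.stalk x) {D k (X.presheaf.stalk x) T} = ⊤ := by
  classical
  let p := X ↘ Spec (CommRingCat.of k)
  obtain ⟨U, hU, V, hV, hxV, hVU, hstd⟩ := Smooth.exists_isStandardSmooth p x
  obtain rfl : U = ⊤ := eq_top_iff.mpr fun q _ => (Subsingleton.elim (α := PrimeSpectrum k) q (p x)) ▸ hVU hxV
  obtain ⟨n, g₀, hg₀, hget₀⟩ := hstd.exists_etale_mvPolynomial
  obtain rfl : n = 1 := by
    have h1 := FibDimLib.fibreDimAt_chart p hU hV hVU g₀ hg₀ hget₀ x hxV
    have hr : Set.range (p.fiberι (p x)) = Set.univ := by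
      rw [Scheme.Hom.range_fiberι]
      exact Set.eq_univ_of_forall fun y => Subsingleton.elim (α := PrimeSpectrum k) _ _
    let ε : ↥(p.fiber (p x)) ≃ₜ X := (p.fiberι (p x)).isEmbedding.toHomeomorph.trans ((Homeomorph.setCongr hr).trans
      (Homeomorph.Set.univ X))
    haveI : IrreducibleSpace ↥(p.fiber (p x)) := by
      rw [irreducibleSpace_def]
      have h := (IrreducibleSpace.isIrreducible_univ X).image ε.symm ε.symm.continuous.continuousOn
      rwa [Set.image_univ, ε.symm.surjective.range_eq] at h
    have h2 : FlatMor.fibreDimAt p x = topologicalKrullDim X := by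
      rw [FlatMor.fibreDimAt]
      let q : p.fiber (p x) ⟶ Spec (CommRingCat.of ↥((Spec (CommRingCat.of k)).residueField (p x))) :=
        p.fiberToSpecResidueField (p x)
      haveI : LocallyOfFiniteType q :=
        MorphismProperty.pullback_snd _ _ (inferInstance : LocallyOfFiniteType p)
      exact (FibDimLib.localDim_of_irreducible q _).trans (IsHomeomorph.topologicalKrullDim_eq _ ε.isHomeomorph)
    rw [h1, hdim] at h2
    exact_mod_cast h2
  letI algkV : Algebra k Γ(X, V) :=
    ((p.appLE ⊤ V hVU).hom.comp (Scheme.ΓSpecIso (CommRingCat.of k)).inv.hom).toAlgebra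
  let σ := (Scheme.ΓSpecIso (CommRingCat.of k)).commRingCatIsoToRingEquiv
  let g : MvPolynomial (Fin 1) k →+* Γ(X, V) := g₀.comp (MvPolynomial.mapEquiv _ σ.symm).toRingHom
  have hget : g.Etale := RingHom.Etale.respectsIso.2 g₀ (MvPolynomial.mapEquiv _ σ.symm) hget₀
  let R := MvPolynomial (Fin 1) k
  letI algRV : Algebra R Γ(X, V) := g.toAlgebra
  haveI : IsScalarTower k R Γ(X, V) := IsScalarTower.of_algebraMap_eq fun c => by
    change _ = g₀ (MvPolynomial.mapEquiv _ σ.symm (MvPolynomial.C c))
    rw [MvPolynomial.mapEquiv_apply, MvPolynomial.map_C]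
    exact (RingHom.congr_fun hg₀ _).symm
  haveI : Algebra.Etale R Γ(X, V) := hget
  haveI : Algebra.FiniteType k Γ(X, V) := Algebra.FiniteType.trans (R := k) (S := R) inferInstance inferInstance
  haveI : Algebra.FormallySmooth k Γ(X, V) := Algebra.FormallySmooth.comp k R _
  letI := X.presheaf.algebra_section_stalk (⟨x, hxV⟩ : V)
  haveI := hV.isLocalization_stalk ⟨x, hxV⟩
  letI algkB : Algebra k (X.presheaf.stalk x) := Curv2.stalkAlgebra k X x
  haveI : IsScalarTower k Γ(X, V) (X.presheaf.stalk x) := IsScalarTower.of_algebraMap_eq fun c => by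
    change X.presheaf.germ ⊤ x trivial _ = X.presheaf.germ V x hxV (p.appLE ⊤ V hVU _)
    rw [Scheme.Hom.appLE, CommRingCat.comp_apply, TopCat.Presheaf.germ_res_apply]
    rfl
  haveI : Algebra.EssFiniteType Γ(X, V) (X.presheaf.stalk x) :=
    Algebra.EssFiniteType.of_isLocalization _ (hV.primeIdealOf ⟨x, hxV⟩).asIdeal.primeCompl
  haveI hess : Algebra.EssFiniteType k (X.presheaf.stalk x) := Algebra.EssFiniteType.comp k Γ(X, V) _
  haveI : Algebra.FormallySmooth Γ(X, V) (X.presheaf.stalk x) :=
    Algebra.FormallySmooth.of_isLocalization (hV.primeIdealOf ⟨x, hxV⟩).asIdeal.primeCompl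
  haveI hsm : Algebra.FormallySmooth k (X.presheaf.stalk x) := Algebra.FormallySmooth.comp k Γ(X, V) _
  letI algRB : Algebra R (X.presheaf.stalk x) :=
    ((algebraMap Γ(X, V) (X.presheaf.stalk x)).comp (algebraMap R Γ(X, V))).toAlgebra
  haveI : IsScalarTower R Γ(X, V) (X.presheaf.stalk x) := IsScalarTower.of_algebraMap_eq fun _ => rfl
  haveI : IsScalarTower k R (X.presheaf.stalk x) := IsScalarTower.of_algebraMap_eq fun c => by
    rw [IsScalarTower.algebraMap_apply k Γ(X, V) (X.presheaf.stalk x),
      IsScalarTower.algebraMap_apply k R Γ(X, V)]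
    rfl
  haveI : Algebra.FormallyUnramified Γ(X, V) (X.presheaf.stalk x) :=
    Algebra.FormallyUnramified.of_isLocalization (hV.primeIdealOf ⟨x, hxV⟩).asIdeal.primeCompl
  haveI : Algebra.FormallyUnramified R (X.presheaf.stalk x) :=
    Algebra.FormallyUnramified.comp R Γ(X, V) _
  let T : X.presheaf.stalk x := algebraMap R _ (MvPolynomial.X 0)
  have hT : Submodule.span (X.presheaf.stalk x) {D k (X.presheaf.stalk x) T} = ⊤ := by
    rw [eq_top_iff, ← Groth.Agent.S16548.span_of_subsingleton (k := k) (A := R) (B := X.presheaf.stalk x),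
      Submodule.span_le]
    rintro _ ⟨r, rfl⟩
    induction r using MvPolynomial.induction_on with
    | C c =>
      dsimp only
      rw [← MvPolynomial.algebraMap_eq, ← IsScalarTower.algebraMap_apply, Derivation.map_algebraMap]
      exact zero_mem _
    | add a b ha hb =>
      dsimp only
      rw [map_add, map_add]
      exact add_mem ha hb
    | mul_X a i ha =>
      dsimp only
      rw [map_mul, Derivation.leibniz, Subsingleton.elim i 0]
      exact add_mem (Submodule.smul_mem _ _ (Submodule.subset_span rfl)) (Submodule.smul_mem _ _ ha)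
  refine ⟨hess, hsm, fun hu => ?_, T, hT⟩
  haveI := dvr_stalk_closed (k := k) hdim hx
  refine IsDiscreteValuationRing.not_isField (X.presheaf.stalk x) ?_
  have hm := Algebra.FormallyUnramified.map_maximalIdeal (R := k) (S := X.presheaf.stalk x)
  rw [show maximalIdeal k = ⊥ from maximalIdeal_eq_bot, Ideal.map_bot] at hm
  exact IsLocalRing.isField_iff_maximalIdeal_eq.mpr hm.symm

end HurwitzLib
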