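import Groth.Agent.EtaleChiLib.Push
import Groth.Agent.DetDegLib.Frame
import Groth.Agent.CurveAmpLib.Integral
import Groth.Prelude.Def_Pi1
import Mathlib.RingTheory.DedekindDomain.Basic
import Mathlib.RingTheory.DedekindDomain.PID
import Mathlib.RingTheory.RegularLocalRing.Defs
import Mathlib.RingTheory.Discriminant

/-!
# The direct image of the structure sheaf of an integral finite cover of a normal curve
-/

set_option autoImplicit false
set_option linter.style.haveILetI false
universe u

open CategoryTheory CategoryTheory.Limits AlgebraicGeometry TopologicalSpace Opposite DevissLib QCohLib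

noncomputable section

namespace HurwitzLib

variable {X Y : Scheme.{u}}

theorem regular_stalk [IsLocallyNoetherian Y] [IsIntegral Y] (hY : topologicalKrullDim Y ≤ 1)
    (hn : Pi1.IsNormalScheme Y) (y : Y) : IsRegularLocalRing (Y.presheaf.stalk y) := by
  haveI := (hn y).2
  haveI : Ring.KrullDimLE 1 (Y.presheaf.stalk y) := CurveAmpLib.krullDimLE_stalk hY y
  haveI : Ring.DimensionLEOne (Y.presheaf.stalk y) :=
    ⟨fun {p} hp hprime => hprime.isMaximal_of_ne_bot hp⟩
  haveI : IsDedekindDomain (Y.presheaf.stalk y) := { }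
  haveI : IsPrincipalIdealRing (Y.presheaf.stalk y) := inferInstance
  infer_instance

variable [IsIntegral X] [IsIntegral Y] {f : X ⟶ Y} (e : f (genericPoint X) = genericPoint Y)

/-- The extension of function fields. -/
abbrev ffAlgebra : Algebra Y.functionField X.functionField :=
  ((Y.presheaf.stalkSpecializes (specializes_of_eq e) ≫ f.stalkMap (genericPoint X)).hom).toAlgebra

include e in
theorem mem_preimage {W : Y.Opens} (hW : genericPoint Y ∈ W) : genericPoint X ∈ f ⁻¹ᵁ W := by
  change f (genericPoint X) ∈ W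
  rwa [e]

/-- A section of the direct image as an element of the function field of the cover. -/
def tau {W : Y.Opens} (hW : genericPoint Y ∈ W)
    (s : Γ((Coh.push f).obj (Coh.structureModule X), W)) : X.functionField :=
  (X.presheaf.germ (f ⁻¹ᵁ W) (genericPoint X) (mem_preimage e hW)).hom (show Γ(X, f ⁻¹ᵁ W) from s)

theorem alg_germ {W : Y.Opens} (hW : genericPoint Y ∈ W) (r : Γ(Y, W)) :
    letI := ffAlgebra e
    algebraMap Y.functionField X.functionField (Y.presheaf.germ W (genericPoint Y) hW r) =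
      X.presheaf.germ (f ⁻¹ᵁ W) (genericPoint X) (mem_preimage e hW) (f.app W r) := by
  change f.stalkMap (genericPoint X) (Y.presheaf.stalkSpecializes (specializes_of_eq e)
    (Y.presheaf.germ W (genericPoint Y) hW r)) = _
  rw [TopCat.Presheaf.germ_stalkSpecializes_apply, Scheme.Hom.germ_stalkMap_apply]

theorem tau_smul {W : Y.Opens} (hW : genericPoint Y ∈ W) (r : Γ(Y, W))
    (s : Γ((Coh.push f).obj (Coh.structureModule X), W)) :
    letI := ffAlgebra e
    tau e hW (r • s) = algebraMap Y.functionField X.functionField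
      (Y.presheaf.germ W (genericPoint Y) hW r) * tau e hW s := by
  rw [alg_germ e hW]
  exact map_mul (X.presheaf.germ (f ⁻¹ᵁ W) (genericPoint X) (mem_preimage e hW)).hom
    (f.app W r) (show Γ(X, f ⁻¹ᵁ W) from s)

theorem tau_sum {W : Y.Opens} (hW : genericPoint Y ∈ W) {n : ℕ}
    (s : Fin n → Γ((Coh.push f).obj (Coh.structureModule X), W)) :
    tau e hW (∑ i, s i) = ∑ i, tau e hW (s i) :=
  map_sum (X.presheaf.germ (f ⁻¹ᵁ W) (genericPoint X) (mem_preimage e hW)).hom _ _

theorem tau_res {W W' : Y.Opens} (h : W' ≤ W) (hW' : genericPoint Y ∈ W')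
    (s : Γ((Coh.push f).obj (Coh.structureModule X), W)) :
    tau e hW' (((Coh.push f).obj (Coh.structureModule X)).presheaf.map (homOfLE h).op s) =
      tau e (h hW') s :=
  TopCat.Presheaf.germ_res_apply X.presheaf (homOfLE (fun _ hz => h hz : f ⁻¹ᵁ W' ≤ f ⁻¹ᵁ W))
    (genericPoint X) (mem_preimage e hW') _

include e in
theorem app_injective {W : Y.Opens} (hW : genericPoint Y ∈ W) : Function.Injective (f.app W) := by
  letI := ffAlgebra e
  intro r r' h
  refine germ_injective_of_isIntegral Y (genericPoint Y) hW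
    ((algebraMap Y.functionField X.functionField).injective ?_)
  rw [alg_germ e hW, alg_germ e hW, h]

include e in
theorem torsionFree_push (y : Y) : NoZeroSMulDivisors (Y.presheaf.stalk y)
    (((Coh.push f).obj (Coh.structureModule X)).presheaf.stalk y) := by
  rw [noZeroSMulDivisors_iff]
  intro r a h
  rw [or_iff_not_imp_left]
  intro hr
  obtain ⟨U₁, h₁, r', rfl⟩ := Y.presheaf.exists_germ_eq (x := y) r
  obtain ⟨U₂, h₂, s, rfl⟩ := exists_gm_eq ((Coh.push f).obj (Coh.structureModule X)) y a
  let M := (Coh.push f).obj (Coh.structureModule X)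
  let V : Y.Opens := U₁ ⊓ U₂
  have hyV : y ∈ V := ⟨h₁, h₂⟩
  let r₁ : Γ(Y, V) := Y.presheaf.map (homOfLE (inf_le_left : V ≤ U₁)).op r'
  let s₁ : Γ(M, V) := M.presheaf.map (homOfLE (inf_le_right : V ≤ U₂)).op s
  have hr₁ : Y.presheaf.germ V y hyV r₁ = Y.presheaf.germ U₁ y h₁ r' :=
    TopCat.Presheaf.germ_res_apply _ _ _ _ _
  have hs₁ : gm M y hyV s₁ = gm M y h₂ s := gm_map M _ y hyV s
  rw [← hs₁] at h ⊢
  rw [← hr₁] at h hr
  have h' : M.presheaf.germ V y hyV (r₁ • s₁) = 0 := (AmpleLib.germ_smul M r₁ s₁ hyV).trans h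
  obtain ⟨V', hyV', i₁, i₂, he⟩ := TopCat.Presheaf.germ_eq M.presheaf y hyV hyV (r₁ • s₁) (0 : Γ(M, V))
    (h'.trans (map_zero _).symm)
  rw [map_zero] at he
  have hV'V : V' ≤ V := leOfHom i₁
  let r₂ : Γ(Y, V') := Y.presheaf.map (homOfLE hV'V).op r₁
  let s₂ : Γ(M, V') := M.presheaf.map (homOfLE hV'V).op s₁
  have hr₂ : r₂ ≠ 0 := fun h0 => hr (by
    rw [← TopCat.Presheaf.germ_res_apply Y.presheaf (homOfLE hV'V) y hyV']
    exact (congrArg _ h0).trans (map_zero _))
  have h2 : r₂ • s₂ = 0 := (AmpleLib.res_smul M hV'V r₁ s₁).symm.trans he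
  have hz : s₂ = 0 := by
    have hη : genericPoint Y ∈ V' :=
      ((genericPoint_spec Y).mem_open_set_iff V'.isOpen).mpr ⟨y, trivial, hyV'⟩
    haveI : Nonempty (f ⁻¹ᵁ V') := ⟨⟨genericPoint X, mem_preimage e hη⟩⟩
    haveI : IsDomain Γ(X, f ⁻¹ᵁ V') := IsIntegral.component_integral _
    have h3 : f.app V' r₂ * (show Γ(X, f ⁻¹ᵁ V') from s₂) = 0 := h2
    exact (mul_eq_zero.mp h3).resolve_left fun h4 => hr₂ (app_injective e hη (h4.trans (map_zero _).symm))
  rw [← gm_map M hV'V y hyV' s₁]
  exact (congrArg _ hz).trans (map_zero _)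

include e in
theorem locFree_push [IsLocallyNoetherian Y] [IsFinite f] (hY : topologicalKrullDim Y ≤ 1)
    (hn : Pi1.IsNormalScheme Y) :
    FlatMod.IsFinLocFreeOfRank (CurvLib.genRank ((Coh.push f).obj (Coh.structureModule X)))
      ((Coh.push f).obj (Coh.structureModule X)) :=
  haveI : IsLocallyNoetherian X := LocallyOfFiniteType.isLocallyNoetherian f
  CurveVBLib.rank_genRank ((Groth.Agent.S1688.result Y (regular_stalk hY hn) hY _
    (QCohLib.isCoh_push_finite f _ (DevissLib.isCoh_structureModule X))).mp (torsionFree_push e))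

/-- A frame on an affine open gives a basis of the function field extension. -/
theorem exists_basis [IsLocallyNoetherian Y] [IsFinite f] {n : ℕ} {U : Y.Opens} (hU : IsAffineOpen U)
    (hη : genericPoint Y ∈ U) (es : Fin n → Γ((Coh.push f).obj (Coh.structureModule X), U))
    (hes : ∀ (y : Y) (hy : y ∈ U), DetDegLib.FrameAt ((Coh.push f).obj (Coh.structureModule X)) es hy) :
    letI := ffAlgebra e
    ∃ B : Module.Basis (Fin n) Y.functionField X.functionField, ∀ i, B i = tau e hη (es i) := by
  letI := ffAlgebra e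
  haveI : IsLocallyNoetherian X := LocallyOfFiniteType.isLocallyNoetherian f
  haveI : Coh.IsQCoh ((Coh.push f).obj (Coh.structureModule X)) :=
    (QCohLib.isCoh_push_finite f _ (DevissLib.isCoh_structureModule X)).1
  haveI : Nonempty U := ⟨⟨genericPoint Y, hη⟩⟩
  haveI : Nonempty (f ⁻¹ᵁ U) := ⟨⟨genericPoint X, mem_preimage e hη⟩⟩
  haveI := functionField_isFractionRing_of_isAffineOpen Y U hU
  haveI := functionField_isFractionRing_of_isAffineOpen X (f ⁻¹ᵁ U) (hU.preimage f)
  let v : Fin n → X.functionField := fun i => tau e hη (es i)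
  have hbij := DetDegLib.frame_bijective hU es hes
  have hli : LinearIndependent Y.functionField v := by
    rw [Fintype.linearIndependent_iff]
    intro c hc i
    obtain ⟨b, hb⟩ := IsLocalization.exist_integer_multiples_of_finite (nonZeroDivisors Γ(Y, U)) c
    choose a ha using hb
    have ha' : ∀ i, Y.presheaf.germ U (genericPoint Y) hη (a i) =
        Y.presheaf.germ U (genericPoint Y) hη (b : Γ(Y, U)) * c i := fun i =>
      (ha i).trans (Algebra.smul_def _ _)
    have h0 : tau e hη (∑ i, a i • es i) = 0 := by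
      rw [tau_sum]
      simp only [tau_smul, ha', map_mul, mul_assoc, ← Finset.mul_sum]
      rw [show ∑ i, algebraMap Y.functionField X.functionField (c i) * tau e hη (es i) = 0 from
        (Finset.sum_congr rfl fun i _ => (Algebra.smul_def _ _).symm).trans hc, mul_zero]
    have h1 : ∑ i, a i • es i = 0 :=
      (injective_iff_map_eq_zero (X.presheaf.germ (f ⁻¹ᵁ U) (genericPoint X) (mem_preimage e hη)).hom).mp
        (germ_injective_of_isIntegral X _ _) _ h0
    have h2 : a i = 0 := congrFun (hbij.1 (a₁ := a) (a₂ := 0) (h1.trans (Finset.sum_eq_zero fun j _ => zero_smul Γ(Y, U) (es j)).symm)) i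
    have h3 := ha' i
    rw [h2, map_zero] at h3
    refine (mul_eq_zero.mp h3.symm).resolve_left fun h4 => nonZeroDivisors.coe_ne_zero b ?_
    exact germ_injective_of_isIntegral Y _ hη (h4.trans (map_zero _).symm)
  let V := Submodule.span Y.functionField (Set.range v)
  have hmem : ∀ s : Γ(X, f ⁻¹ᵁ U),
      (X.presheaf.germ (f ⁻¹ᵁ U) (genericPoint X) (mem_preimage e hη)).hom s ∈ V := fun s => by
    obtain ⟨c, hc⟩ := hbij.2 (show Γ((Coh.push f).obj (Coh.structureModule X), U) from s)
    have h1 : tau e hη (∑ i, c i • es i) ∈ V := by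
      rw [tau_sum]
      refine Submodule.sum_mem _ fun i _ => ?_
      rw [tau_smul, ← Algebra.smul_def]
      exact V.smul_mem _ (Submodule.subset_span ⟨i, rfl⟩)
    dsimp only at hc
    rw [hc] at h1
    exact h1
  have hstab : ∀ (s : Γ(X, f ⁻¹ᵁ U)), ∀ x ∈ V,
      (X.presheaf.germ (f ⁻¹ᵁ U) (genericPoint X) (mem_preimage e hη)).hom s * x ∈ V := by
    intro s x hx
    induction hx using Submodule.span_induction with
    | mem y hy =>
      obtain ⟨i, rfl⟩ := hy
      change _ * tau e hη (es i) ∈ V
      rw [tau, ← map_mul]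
      exact hmem _
    | zero => rw [mul_zero]; exact V.zero_mem
    | add y z _ _ hy hz => rw [mul_add]; exact V.add_mem hy hz
    | smul a y _ hy =>
      rw [mul_smul_comm]
      exact V.smul_mem a hy
  have hspan : ⊤ ≤ V := by
    intro l _
    obtain ⟨s, t, ht, rfl⟩ := IsFractionRing.div_surjective (A := Γ(X, f ⁻¹ᵁ U)) l
    let g := (X.presheaf.germ (f ⁻¹ᵁ U) (genericPoint X) (mem_preimage e hη)).hom
    have ht' : g t ≠ 0 := fun h0 => nonZeroDivisors.ne_zero ht
      (germ_injective_of_isIntegral X _ _ (h0.trans (map_zero _).symm))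
    haveI : FiniteDimensional Y.functionField V := FiniteDimensional.span_of_finite _ (Set.finite_range v)
    let φ : V →ₗ[Y.functionField] V :=
      { toFun := fun x => ⟨g t * x.1, hstab t x.1 x.2⟩
        map_add' := fun x y => Subtype.ext (mul_add _ _ _)
        map_smul' := fun a x => Subtype.ext (mul_smul_comm a (g t) x.1) }
    have hφ : Function.Injective φ := fun x y h =>
      Subtype.ext (mul_left_cancel₀ ht' (congrArg Subtype.val h))
    have h1 : (1 : X.functionField) ∈ V := map_one g ▸ hmem 1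
    obtain ⟨w, hw⟩ := (LinearMap.injective_iff_surjective.mp hφ) ⟨1, h1⟩
    have hw' : g t * w.1 = 1 := congrArg Subtype.val hw
    change g s / g t ∈ V
    rw [div_eq_mul_inv, inv_eq_of_mul_eq_one_right hw']
    exact hstab s w.1 w.2
  exact ⟨Module.Basis.mk hli hspan, fun i => Module.Basis.mk_apply hli hspan i⟩

end HurwitzLib
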