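import Groth.Agent.HurwitzLib.Different
import Groth.Agent.HurwitzLib.Rank
import Groth.Agent.DetDegLib.Algebra
import Groth.Agent.DetDegLib.Frame
import Groth.Agent.SweepSix.NormSect
import Groth.Prelude.Def_Curv2

/-!
# The discriminant at a point in terms of the fibre
-/

set_option autoImplicit false
set_option linter.style.haveILetI false
set_option linter.unusedSectionVars false
universe u

open CategoryTheory CategoryTheory.Limits AlgebraicGeometry TopologicalSpace Opposite DevissLib QCohLib
open IsLocalRing UniqueFactorizationMonoid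
open scoped nonZeroDivisors

noncomputable section

namespace HurwitzLib

attribute [local instance] FractionRing.liftAlgebra FractionRing.isScalarTower_liftAlgebra

theorem ramificationIdx_eq_length {R S T : Type u} [CommRing R] [CommRing S] [CommRing T] [Algebra R S]
    [Algebra S T] [Algebra R T] [IsScalarTower R S T] (q : Ideal S) [q.IsPrime]
    [IsLocalization.AtPrime T q] :
    q.ramificationIdx R = (Module.length T (T ⧸ (q.under R).map (algebraMap R T))).toNat := by
  rw [Ideal.ramificationIdx_def]
  let Sq := Localization.AtPrime q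
  let σ : Sq ≃ₐ[S] T := IsLocalization.algEquiv q.primeCompl Sq T
  let J := (q.under R).map (algebraMap R Sq)
  let J' := (q.under R).map (algebraMap R T)
  have hJ : J' = J.map (σ.toRingEquiv : Sq →+* T) := by
    rw [Ideal.map_map]
    refine congrArg (fun φ => Ideal.map φ (q.under R)) (RingHom.ext fun a => ?_)
    change algebraMap R T a = σ (algebraMap R Sq a)
    rw [IsScalarTower.algebraMap_apply R S Sq, IsScalarTower.algebraMap_apply R S T, σ.commutes]
  letI : Algebra Sq T := (σ.toRingEquiv : Sq →+* T).toAlgebra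
  have hs : Function.Surjective (algebraMap Sq T) := σ.surjective
  let ε := Ideal.quotientEquiv J J' σ.toRingEquiv hJ
  let l : (Sq ⧸ J) ≃ₗ[Sq] (T ⧸ J') :=
    { ε.toAddEquiv with
      map_smul' := fun a z => by
        obtain ⟨z, rfl⟩ := Ideal.Quotient.mk_surjective z
        exact congrArg (Ideal.Quotient.mk J') (map_mul σ a z) }
  exact congrArg ENat.toNat (l.length_eq.trans (Module.length_eq_of_surjective hs))

theorem isSeparable_fractionRing (A B K L : Type u) [CommRing A] [IsDomain A] [CommRing B] [IsDomain B]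
    [Algebra A B] [Module.IsTorsionFree A B] [Field K] [Field L] [Algebra A K] [IsFractionRing A K]
    [Algebra B L] [IsFractionRing B L] [Algebra K L] [Algebra A L] [IsScalarTower A K L]
    [IsScalarTower A B L] [Algebra.IsSeparable K L] :
    Algebra.IsSeparable (FractionRing A) (FractionRing B) := by
  have H : RingHom.comp (algebraMap (FractionRing A) (FractionRing B))
      ↑(FractionRing.algEquiv A K).symm.toRingEquiv =
        RingHom.comp ↑(FractionRing.algEquiv B L).symm.toRingEquiv (algebraMap K L) := by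
    apply IsLocalization.ringHom_ext A⁰
    ext
    simp only [RingHom.coe_comp, RingHom.coe_coe,
      AlgEquiv.coe_ringEquiv, Function.comp_apply, AlgEquiv.commutes,
      ← IsScalarTower.algebraMap_apply]
    rw [IsScalarTower.algebraMap_apply A B L, AlgEquiv.commutes, ← IsScalarTower.algebraMap_apply]
  exact Algebra.IsSeparable.of_equiv_equiv _ _ H

variable {X : Scheme.{u}}

theorem mem_prime_iff {U : X.Opens} (hU : IsAffineOpen U) {x : X} (hx : x ∈ U) (r : Γ(X, U)) :
    r ∈ (hU.primeIdealOf ⟨x, hx⟩).asIdeal ↔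
      X.presheaf.germ U x hx r ∈ maximalIdeal (X.presheaf.stalk x) := by
  letI := TopCat.Presheaf.algebra_section_stalk X.presheaf (⟨x, hx⟩ : U)
  haveI := hU.isLocalization_stalk ⟨x, hx⟩
  exact (IsLocalization.AtPrime.to_map_mem_maximal_iff (X.presheaf.stalk x)
    (hU.primeIdealOf ⟨x, hx⟩).asIdeal r).symm

theorem eq_of_prime_eq {U : X.Opens} (hU : IsAffineOpen U) {x x' : X} (hx : x ∈ U) (hx' : x' ∈ U)
    (h : ∀ r, r ∈ (hU.primeIdealOf ⟨x, hx⟩).asIdeal ↔ r ∈ (hU.primeIdealOf ⟨x', hx'⟩).asIdeal) :
    x = x' := by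
  exact (hU.fromSpec_primeIdealOf ⟨x, hx⟩).symm.trans
    ((congrArg (fun q => hU.fromSpec q) (PrimeSpectrum.ext (Ideal.ext h))).trans
      (hU.fromSpec_primeIdealOf ⟨x', hx'⟩))

/-- Away from the generic point, the local rings of a normal curve are discrete valuation rings. -/
theorem dvr_stalk [IsLocallyNoetherian X] [IsIntegral X] (hdim : topologicalKrullDim X ≤ 1)
    (hn : Pi1.IsNormalScheme X) {x : X} (hx : x ≠ genericPoint X) :
    IsDiscreteValuationRing (X.presheaf.stalk x) := by
  haveI := (hn x).2
  haveI : Ring.KrullDimLE 1 (X.presheaf.stalk x) := CurveAmpLib.krullDimLE_stalk hdim x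
  haveI : Ring.DimensionLEOne (X.presheaf.stalk x) :=
    ⟨fun {p} hp hprime => hprime.isMaximal_of_ne_bot hp⟩
  haveI : IsDedekindDomain (X.presheaf.stalk x) := { }
  suffices hnF : ¬ IsField (X.presheaf.stalk x) from by
    have h : IsDedekindDomain (X.presheaf.stalk x) ↔ IsDiscreteValuationRing (X.presheaf.stalk x) :=
      (IsDiscreteValuationRing.TFAE _ hnF).out 2 0
    exact h.mp inferInstance
  intro hF
  apply hx
  obtain ⟨U, hU, hxU⟩ := QCohLib.exists_affine_nhd x
  replace hU : IsAffineOpen U := hU
  haveI : Nonempty U := ⟨⟨x, hxU⟩⟩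
  have hηU : genericPoint X ∈ U :=
    ((genericPoint_spec X).mem_open_set_iff U.isOpen).mpr ⟨x, trivial, hxU⟩
  refine (Specializes.antisymm ?_ ((genericPoint_spec X).specializes trivial)).eq
  refine (specializes_of_eq (hU.fromSpec_primeIdealOf ⟨x, hxU⟩).symm).trans
    (Specializes.trans ?_ (specializes_of_eq (hU.fromSpec_primeIdealOf ⟨_, hηU⟩)))
  refine Specializes.map ((PrimeSpectrum.le_iff_specializes _ _).mp fun r hr => ?_)
    hU.fromSpec.base.hom.continuous
  rw [mem_prime_iff hU hxU, IsLocalRing.isField_iff_maximalIdeal_eq.mp hF, Ideal.mem_bot] at hr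
  have h0 : r = 0 := germ_injective_of_isIntegral X x hxU (hr.trans (map_zero _).symm)
  rw [h0]
  exact Ideal.zero_mem _

variable {Y : Scheme.{u}} {f : X ⟶ Y}

/-- The map of local rings at a point of a fibre. -/
def stalkTo {x : X} {y : Y} (h : f x = y) : Y.presheaf.stalk y →+* X.presheaf.stalk x :=
  (Y.presheaf.stalkSpecializes (specializes_of_eq h) ≫ f.stalkMap x).hom

theorem stalkTo_germ {x : X} {y : Y} (h : f x = y) {U : Y.Opens} (hy : y ∈ U) (hx : x ∈ f ⁻¹ᵁ U)
    (r : Γ(Y, U)) :
    stalkTo h (Y.presheaf.germ U y hy r) = X.presheaf.germ (f ⁻¹ᵁ U) x hx (f.app U r) := by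
  subst h
  change f.stalkMap x (Y.presheaf.stalkSpecializes (specializes_of_eq rfl) (Y.presheaf.germ U (f x) hy r)) = _
  rw [TopCat.Presheaf.germ_stalkSpecializes_apply, Scheme.Hom.germ_stalkMap_apply]

theorem stalkTo_rfl (x : X) : stalkTo (f := f) (x := x) rfl = (f.stalkMap x).hom := by
  refine RingHom.ext fun a => ?_
  obtain ⟨U, hU, r, rfl⟩ := Y.presheaf.exists_germ_eq (x := f x) a
  exact (stalkTo_germ rfl hU hU r).trans (Scheme.Hom.germ_stalkMap_apply f U x hU r).symm

theorem stalkTo_stalkMap {k : Type u} [Field k] [X.Over (Spec (CommRingCat.of k))]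
    [Y.Over (Spec (CommRingCat.of k))]
    (hf : f ≫ (Y ↘ (Spec (CommRingCat.of k))) = X ↘ (Spec (CommRingCat.of k))) {x : X} {y : Y}
    (h : f x = y) (c : k) : stalkTo h (Curv2.stalkMap k Y y c) = Curv2.stalkMap k X x c := by
  refine (stalkTo_germ (U := ⊤) h trivial trivial _).trans ?_
  change X.presheaf.germ ⊤ x trivial (f.app ⊤ (Coh.toGlobal (Y ↘ Spec (CommRingCat.of k)) c)) =
    X.presheaf.germ ⊤ x trivial (Coh.toGlobal (X ↘ Spec (CommRingCat.of k)) c)
  rw [← hf]
  rfl

/-- The residue field of a closed point is finite over the base field. -/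
theorem finite_residueField {k : Type u} [Field k] [X.Over (Spec (CommRingCat.of k))]
    [LocallyOfFiniteType (X ↘ Spec (CommRingCat.of k))] {x : X} (hx : IsClosed ({x} : Set X)) :
    letI := Curv2.resAlgebra k X x
    Module.Finite k (X.residueField x) := by
  letI := Curv2.resAlgebra k X x
  let p := X ↘ Spec (CommRingCat.of k)
  haveI : JacobsonSpace X := LocallyOfFiniteType.jacobsonSpace p
  haveI : LocallyOfFiniteType (X.fromSpecResidueField x) :=
    isClosed_singleton_iff_locallyOfFiniteType.mp hx
  have h : Spec.map (CommRingCat.ofHom (Curv2.resMap k X x)) = X.fromSpecResidueField x ≫ p := by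
    have hc : CommRingCat.ofHom (Curv2.resMap k X x) =
        (Scheme.ΓSpecIso (CommRingCat.of k)).inv ≫ p.appTop ≫ X.presheaf.germ ⊤ x trivial ≫ X.residue x := rfl
    rw [hc, Spec.map_comp, Spec.map_comp, Spec.map_comp]
    show _ = (Spec.map (X.residue x) ≫ X.fromSpecStalk x) ≫ p
    simp only [Category.assoc]
    congr 1
    rw [← Scheme.fromSpecStalk_toSpecΓ_assoc, ← Scheme.toSpecΓ_naturality_assoc]
    simp [toSpecΓ_SpecMap_ΓSpecIso_inv]
  have h' : LocallyOfFiniteType (Spec.map (CommRingCat.ofHom (Curv2.resMap k X x))) := h ▸ inferInstance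
  haveI : Algebra.FiniteType k (X.residueField x) :=
    (HasRingHomProperty.Spec_iff (P := @LocallyOfFiniteType)).1 h'
  exact finite_of_finite_type_of_isJacobsonRing k (X.residueField x)

variable [IsIntegral X] [IsIntegral Y] (e : f (genericPoint X) = genericPoint Y)

theorem stalkTo_compat {x : X} {y : Y} (h : f x = y) (a : Y.presheaf.stalk y) :
    letI := ffAlgebra e
    algebraMap (X.presheaf.stalk x) X.functionField (stalkTo h a) =
      algebraMap Y.functionField X.functionField
        (algebraMap (Y.presheaf.stalk y) Y.functionField a) := by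
  letI := ffAlgebra e
  obtain ⟨U, hy, r, rfl⟩ := Y.presheaf.exists_germ_eq (x := y) a
  have hx : x ∈ f ⁻¹ᵁ U := by change f x ∈ U; rwa [h]
  have hη : genericPoint Y ∈ U := ((genericPoint_spec Y).mem_open_set_iff U.isOpen).mpr ⟨y, trivial, hy⟩
  rw [stalkTo_germ h hy hx]
  have h1 : algebraMap (Y.presheaf.stalk y) Y.functionField (Y.presheaf.germ U y hy r) =
      Y.presheaf.germ U (genericPoint Y) hη r :=
    TopCat.Presheaf.germ_stalkSpecializes_apply Y.presheaf hy
      ((genericPoint_spec Y).specializes trivial) r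
  rw [h1, alg_germ e hη]
  exact TopCat.Presheaf.germ_stalkSpecializes_apply X.presheaf hx
    ((genericPoint_spec X).specializes trivial) _

theorem toNat_length {K M : Type u} [Field K] [AddCommGroup M] [Module K M] :
    (Module.length K M).toNat = Module.finrank K M := by
  rw [Module.length_eq_rank, Module.finrank, Cardinal.toNat_toENat]

set_option maxHeartbeats 1000000 in
set_option synthInstance.maxHeartbeats 200000 in
open Classical in
include e in
/-- The order of the discriminant of a local frame as a sum over the fibre. -/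
theorem exists_fiber_data (k : Type u) [Field k] [X.Over (Spec (CommRingCat.of k))]
    [Y.Over (Spec (CommRingCat.of k))] [IsLocallyNoetherian Y] [IsFinite f]
    (hf : f ≫ (Y ↘ (Spec (CommRingCat.of k))) = X ↘ (Spec (CommRingCat.of k)))
    (hY : topologicalKrullDim Y ≤ 1) (hnY : Pi1.IsNormalScheme Y) (hnX : Pi1.IsNormalScheme X)
    (hsep : @Algebra.IsSeparable Y.functionField X.functionField _ _ (ffAlgebra e))
    {y : Y} (hy : y ≠ genericPoint Y) (V : Y.affineOpens) (hyV : y ∈ V.1) (hηV : genericPoint Y ∈ V.1)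
    {n : ℕ} (b : Fin n → Γ((Coh.push f).obj (Coh.structureModule X), V.1))
    (hb : ∀ (z : Y) (hz : z ∈ V.1), DetDegLib.FrameAt ((Coh.push f).obj (Coh.structureModule X)) b hz) :
    letI := ffAlgebra e
    letI : Algebra k (Y.presheaf.stalk y) := Curv2.stalkAlgebra k Y y
    ∃ (δ : Y.presheaf.stalk y) (d : X → ℕ) (s : Finset X),
      algebraMap (Y.presheaf.stalk y) Y.functionField δ =
        Algebra.discr Y.functionField (fun i => tau e hηV (b i)) ∧
      (∀ x, x ∈ s ↔ f x = y) ∧
      (∀ x, f x = y →
        letI := (f.stalkMap x).hom.toAlgebra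
        letI := (f.residueFieldMap x).hom.toAlgebra
        Ideal.ramificationIdx (maximalIdeal (X.presheaf.stalk x)) (Y.presheaf.stalk (f x)) - 1 ≤ d x ∧
          (d x = Ideal.ramificationIdx (maximalIdeal (X.presheaf.stalk x)) (Y.presheaf.stalk (f x)) - 1 ↔
            (Algebra.IsSeparable (Y.residueField (f x)) (X.residueField x) ∧
              ((Ideal.ramificationIdx (maximalIdeal (X.presheaf.stalk x)) (Y.presheaf.stalk (f x)) : ℕ) :
                Y.residueField (f x)) ≠ 0))) ∧
      (DetDegLib.resDeg k (Y.presheaf.stalk y)).toNat * (Ring.ord (Y.presheaf.stalk y) δ).toNat =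
        ∑ x ∈ s, d x * (letI := Curv2.resAlgebra k X x; Module.finrank k (X.residueField x)) ∧
      (IsUnit δ → ∀ x, d x = 0) := by
  classical
  letI := ffAlgebra e
  haveI := hsep
  letI algkA : Algebra k (Y.presheaf.stalk y) := Curv2.stalkAlgebra k Y y
  let A := Y.presheaf.stalk y
  let K := Y.functionField
  let L := X.functionField
  haveI : IsDiscreteValuationRing A := dvr_stalk hY hnY hy
  haveI : Coh.IsQCoh ((Coh.push f).obj (Coh.structureModule X)) :=
    haveI : IsLocallyNoetherian X := LocallyOfFiniteType.isLocallyNoetherian f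
    (QCohLib.isCoh_push_finite f _ (DevissLib.isCoh_structureModule X)).1
  letI algAL : Algebra A L := ((algebraMap K L).comp (algebraMap A K)).toAlgebra
  haveI : IsScalarTower A K L := IsScalarTower.of_algebraMap_eq fun _ => rfl
  haveI : Nonempty V.1 := ⟨⟨y, hyV⟩⟩
  obtain ⟨bK, hbK⟩ := exists_basis e V.2 hηV b hb
  haveI : FiniteDimensional K L := Module.Finite.of_basis bK
  let B := integralClosure A L
  haveI : IsDedekindDomain B := integralClosure.isDedekindDomain A K L
  haveI : IsFractionRing B L := integralClosure.isFractionRing_of_finite_extension K L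
  haveI : Module.Finite A B := IsIntegralClosure.finite A K L B
  haveI : Module.IsTorsionFree A B := Module.isTorsionFree_iff_algebraMap_injective.mpr fun a c hac =>
    IsFractionRing.injective A K ((algebraMap K L).injective (congrArg (fun z : B => (z : L)) hac))
  haveI : Algebra.IsSeparable (FractionRing A) (FractionRing B) := isSeparable_fractionRing A B K L
  have hU : IsAffineOpen (f ⁻¹ᵁ V.1) := V.2.preimage f
  haveI : Nonempty (f ⁻¹ᵁ V.1) := ⟨⟨genericPoint X, mem_preimage e hηV⟩⟩
  haveI : IsFractionRing Γ(X, f ⁻¹ᵁ V.1) L := functionField_isFractionRing_of_isAffineOpen X _ hU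
  haveI : IsIntegrallyClosed Γ(X, f ⁻¹ᵁ V.1) := SweepSix.NormSect.isIntegrallyClosed_of_stalk hU hnX
  let γ : Γ(Y, V.1) →+* A := (Y.presheaf.germ V.1 y hyV).hom
  let g : Γ(X, f ⁻¹ᵁ V.1) →+* L :=
    (X.presheaf.germ (f ⁻¹ᵁ V.1) (genericPoint X) (mem_preimage e hηV)).hom
  have hγg : ∀ a, algebraMap A L (γ a) = g (f.app V.1 a) := fun a => by
    refine Eq.trans ?_ (alg_germ e hηV a)
    exact congrArg (algebraMap K L) (TopCat.Presheaf.germ_stalkSpecializes_apply Y.presheaf hyV
      ((genericPoint_spec Y).specializes trivial) a)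
  have hgint : ∀ r, IsIntegral A (g r) := fun r => by
    obtain ⟨p, hp, hp0⟩ := (IsFinite.finite_app (f := f) V.1 V.2).to_isIntegral r
    refine ⟨p.map γ, hp.map γ, ?_⟩
    rw [Polynomial.eval₂_map, show (algebraMap A L).comp γ = g.comp (f.app V.1).hom from RingHom.ext hγg]
    have h := congrArg g hp0
    rwa [Polynomial.hom_eval₂, map_zero] at h
  let iB : Γ(X, f ⁻¹ᵁ V.1) →+* B := g.codRestrict B.toSubring hgint
  have hiBγ : ∀ a, algebraMap A B (γ a) = iB (f.app V.1 a) := fun a => Subtype.ext (hγg a)
  have hunit : ∀ c, c ∈ (V.2.primeIdealOf ⟨y, hyV⟩).asIdeal.primeCompl → IsUnit (γ c) := fun c hc =>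
    not_not.mp fun h => hc ((mem_prime_iff V.2 hyV c).mpr h)
  have hrep : ∀ z : B, ∃ (r : Γ(X, f ⁻¹ᵁ V.1)) (a : A), IsUnit a ∧ algebraMap A B a * z = iB r := by
    intro z
    letI algRA : Algebra Γ(Y, V.1) A := γ.toAlgebra
    haveI : IsLocalization.AtPrime A (V.2.primeIdealOf ⟨y, hyV⟩).asIdeal :=
      V.2.isLocalization_stalk ⟨y, hyV⟩
    letI : Algebra Γ(Y, V.1) L := ((algebraMap A L).comp γ).toAlgebra
    haveI : IsScalarTower Γ(Y, V.1) A L := IsScalarTower.of_algebraMap_eq fun _ => rfl
    obtain ⟨⟨m, hm⟩, p, hp, hp0⟩ := IsIntegral.exists_multiple_integral_of_isLocalization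
      (V.2.primeIdealOf ⟨y, hyV⟩).asIdeal.primeCompl (Rₘ := A) (z : L) z.2
    have hint : IsIntegral Γ(X, f ⁻¹ᵁ V.1) (algebraMap A L (γ m) * (z : L)) := by
      refine ⟨p.map (f.app V.1).hom, hp.map _, ?_⟩
      rw [Polynomial.eval₂_map]
      have : (algebraMap Γ(X, f ⁻¹ᵁ V.1) L).comp (f.app V.1).hom = algebraMap Γ(Y, V.1) L :=
        RingHom.ext fun a => (hγg a).symm
      rw [this]
      rwa [Submonoid.smul_def, Algebra.smul_def] at hp0
    obtain ⟨r, hr⟩ := IsIntegrallyClosed.isIntegral_iff.mp hint
    exact ⟨r, γ m, hunit m hm, Subtype.ext hr.symm⟩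
  -- the basis of the semilocal ring
  have hγb : ∀ (c : Fin n → Γ(Y, V.1)),
      iB (show Γ(X, f ⁻¹ᵁ V.1) from ∑ i, c i • b i) = ∑ i, γ (c i) • iB (b i) := fun c => by
    refine Subtype.ext ?_
    change tau e hηV (∑ i, c i • b i) = _
    rw [tau_sum, AddSubmonoidClass.coe_finsetSum]
    refine Finset.sum_congr rfl fun i _ => ?_
    rw [tau_smul]
    refine congrArg₂ (· * ·) (congrArg (algebraMap K L) ?_) rfl
    exact (TopCat.Presheaf.germ_stalkSpecializes_apply Y.presheaf hyV
      ((genericPoint_spec Y).specializes trivial) (c i)).symm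
  let v : Fin n → B := fun i => iB (b i)
  have hvK : (fun i => (v i : L)) = bK := funext fun i => (hbK i).symm
  have hli : LinearIndependent A v :=
    LinearIndependent.of_comp (IsScalarTower.toAlgHom A B L).toLinearMap
      ((show LinearIndependent K (fun i => (v i : L)) from hvK ▸ bK.linearIndependent).restrict_scalars
        (by simpa [Algebra.smul_def] using IsFractionRing.injective A K))
  have hspan : ⊤ ≤ Submodule.span A (Set.range v) := fun z _ => by
    obtain ⟨r, a, ha, hr⟩ := hrep z
    obtain ⟨c, hc⟩ := (DetDegLib.frame_bijective V.2 b hb).2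
      (show Γ((Coh.push f).obj (Coh.structureModule X), V.1) from r)
    dsimp only at hc
    obtain ⟨a, rfl⟩ := ha
    have hz : z = (↑a⁻¹ : A) • iB r := by
      rw [← hr, Algebra.smul_def, ← mul_assoc, ← map_mul, Units.inv_mul, map_one, one_mul]
    have hr' : iB r = ∑ i, γ (c i) • v i := (congrArg iB hc.symm).trans (hγb c)
    rw [hz, hr']
    exact Submodule.smul_mem _ _ (Submodule.sum_mem _ fun i _ => Submodule.smul_mem _ _
      (Submodule.subset_span ⟨i, rfl⟩))
  let bB : Module.Basis (Fin n) A B := Module.Basis.mk hli hspan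
  haveI : IsLocalization (Algebra.algebraMapSubmonoid B A⁰) L := IsIntegralClosure.isLocalization A K L B
  have hdisc : algebraMap A K (Algebra.discr A bB) = Algebra.discr K (fun i => tau e hηV (b i)) := by
    rw [← Algebra.discr_localizationLocalization A A⁰ (Rₘ := K) L bB]
    congr 1
    funext i
    rw [Module.Basis.localizationLocalization_apply, Module.Basis.mk_apply]
    rfl
  -- the maps to the local rings of the fibre
  have hjx : ∀ (x : X) (h : f x = y) (z : B),
      ∃ w : X.presheaf.stalk x, algebraMap (X.presheaf.stalk x) L w = (z : L) := fun x h z => by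
    haveI := (hnX x).2
    obtain ⟨p, hp, hp0⟩ := z.2
    refine IsIntegrallyClosed.isIntegral_iff.mp ⟨p.map (stalkTo h), hp.map _, ?_⟩
    rw [Polynomial.eval₂_map]
    rwa [show (algebraMap (X.presheaf.stalk x) L).comp (stalkTo h) = algebraMap A L from
      RingHom.ext (stalkTo_compat e h)]
  choose jf hjf using hjx
  have hinjx : ∀ x : X, Function.Injective (algebraMap (X.presheaf.stalk x) L) := fun x =>
    IsFractionRing.injective _ _
  let jx : ∀ (x : X), f x = y → (B →+* X.presheaf.stalk x) := fun x h =>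
    { toFun := jf x h
      map_one' := hinjx x (by rw [hjf, map_one]; rfl)
      map_mul' := fun a c => hinjx x (by rw [hjf, map_mul, hjf, hjf]; rfl)
      map_zero' := hinjx x (by rw [hjf, map_zero]; rfl)
      map_add' := fun a c => hinjx x (by rw [hjf, map_add, hjf, hjf]; rfl) }
  have hjxA : ∀ x h a, jx x h (algebraMap A B a) = stalkTo h a := fun x h a =>
    hinjx x ((hjf x h _).trans (stalkTo_compat e h a).symm)
  have hmemU : ∀ x, f x = y → x ∈ f ⁻¹ᵁ V.1 := fun x h => by change f x ∈ V.1; rwa [h]
  have hjxR : ∀ x (h : f x = y) r,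
      jx x h (iB r) = X.presheaf.germ (f ⁻¹ᵁ V.1) x (hmemU x h) r := fun x h r =>
    hinjx x ((hjf x h _).trans (TopCat.Presheaf.germ_stalkSpecializes_apply X.presheaf (hmemU x h)
      ((genericPoint_spec X).specializes trivial) r).symm)
  have hloc : ∀ x (h : f x = y), IsLocalHom (stalkTo h) := fun x h => by
    subst h
    rw [stalkTo_rfl]
    infer_instance
  let P : ∀ x, f x = y → Ideal B := fun x h => (maximalIdeal (X.presheaf.stalk x)).comap (jx x h)
  have hPmax : ∀ x h, (P x h).IsMaximal := fun x h => by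
    haveI := hloc x h
    haveI : (P x h).IsPrime := Ideal.comap_isPrime _ _
    refine Ideal.isMaximal_of_isIntegral_of_isMaximal_comap (R := A) (P x h) ?_
    have : (P x h).comap (algebraMap A B) = maximalIdeal A := by
      ext a
      change jx x h (algebraMap A B a) ∈ maximalIdeal (X.presheaf.stalk x) ↔ _
      rw [hjxA]
      exact map_mem_nonunits_iff _ _
    rw [this]
    infer_instance
  have hq : ∀ x (h : f x = y) r,
      r ∈ (hU.primeIdealOf ⟨x, hmemU x h⟩).asIdeal ↔ iB r ∈ P x h := fun x h r => by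
    rw [mem_prime_iff]
    change _ ↔ jx x h (iB r) ∈ maximalIdeal (X.presheaf.stalk x)
    rw [hjxR]
  have hPinj : ∀ x x' (h : f x = y) (h' : f x' = y), P x h = P x' h' → x = x' := fun x x' h h' hP =>
    eq_of_prime_eq hU (hmemU x h) (hmemU x' h') fun r => by rw [hq x h, hq x' h', hP]
  have hmem_rep : ∀ (Q : Ideal B) (z : B) r (a : A), IsUnit a → algebraMap A B a * z = iB r →
      (z ∈ Q ↔ iB r ∈ Q) := fun Q z r a ha hr => by
    rw [← hr, Ideal.unit_mul_mem_iff_mem _ (ha.map _)]
  have hPsurj : ∀ Q : Ideal B, Q.IsMaximal → ∃ x, ∃ h : f x = y, P x h = Q := fun Q hQ => by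
    haveI := hQ
    let q : PrimeSpectrum Γ(X, f ⁻¹ᵁ V.1) := ⟨Q.comap iB, Ideal.comap_isPrime _ _⟩
    let x := hU.fromSpec q
    have hx : x ∈ f ⁻¹ᵁ V.1 := hU.range_fromSpec.le ⟨q, rfl⟩
    have hxq : hU.primeIdealOf ⟨x, hx⟩ = q :=
      hU.fromSpec.isOpenEmbedding.injective (hU.fromSpec_primeIdealOf ⟨x, hx⟩)
    have hfx : f x = y := by
      refine eq_of_prime_eq V.2 hx hyV fun a => ?_
      haveI := Different.liesOver (A := A) Q
      refine (mem_prime_iff V.2 (show f x ∈ V.1 from hx) a).trans (Iff.trans ?_ (mem_prime_iff V.2 hyV a).symm)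
      refine (map_mem_nonunits_iff (f.stalkMap x).hom _).symm.trans ?_
      refine (Iff.trans (iff_of_eq ?_) (mem_prime_iff hU hx (f.app V.1 a)).symm).trans ?_
      · exact congrArg (· ∈ nonunits _) (Scheme.Hom.germ_stalkMap_apply f V.1 x hx a)
      rw [hxq]
      change iB (f.app V.1 a) ∈ Q ↔ _
      rw [← hiBγ, Ideal.mem_of_liesOver Q (maximalIdeal A)]
    refine ⟨x, hfx, Ideal.ext fun z => ?_⟩
    obtain ⟨r, a, ha, hr⟩ := hrep z
    rw [hmem_rep _ z r a ha hr, hmem_rep Q z r a ha hr, ← hq x hfx, hxq]
    rfl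
  have hPloc : ∀ x (h : f x = y),
      @IsLocalization.AtPrime B _ (X.presheaf.stalk x) _ (jx x h).toAlgebra (P x h)
        (hPmax x h).isPrime := fun x h => by
    letI := (jx x h).toAlgebra
    haveI := (hPmax x h).isPrime
    refine { map_units := fun c => not_not.mp c.2, surj := fun w => ?_, exists_of_eq := fun {a c} hac => ?_ }
    · letI := TopCat.Presheaf.algebra_section_stalk X.presheaf (⟨x, hmemU x h⟩ : (f ⁻¹ᵁ V.1))
      haveI := hU.isLocalization_stalk ⟨x, hmemU x h⟩
      obtain ⟨⟨r, s, hs⟩, hw⟩ := IsLocalization.surj (hU.primeIdealOf ⟨x, hmemU x h⟩).asIdeal.primeCompl w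
      refine ⟨⟨iB r, iB s, fun hs' => hs ((hq x h s).mpr hs')⟩, ?_⟩
      change w * jx x h (iB s) = jx x h (iB r)
      rw [hjxR, hjxR]
      exact hw
    · refine ⟨1, congrArg _ (Subtype.ext ?_)⟩
      rw [← hjf x h a, ← hjf x h c]
      exact congrArg _ hac
  have hres : ∀ x (h : f x = y) (w : X.residueField x), ∃ z : B,
      IsLocalRing.residue (X.presheaf.stalk x) (jx x h z) = w := fun x h w => by
    letI := (jx x h).toAlgebra
    haveI := hPmax x h
    haveI := hPloc x h
    obtain ⟨w, rfl⟩ := IsLocalRing.residue_surjective w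
    obtain ⟨⟨r, s, hs⟩, hw⟩ := IsLocalization.surj (P x h).primeCompl w
    obtain ⟨t, i, hi, ht⟩ := (hPmax x h).exists_inv hs
    have hi' : IsLocalRing.residue (X.presheaf.stalk x) (jx x h i) = 0 :=
      (IsLocalRing.residue_eq_zero_iff _).mpr hi
    have hts : IsLocalRing.residue (X.presheaf.stalk x) (jx x h t) *
        IsLocalRing.residue (X.presheaf.stalk x) (jx x h s) = 1 := by
      rw [← map_one (IsLocalRing.residue (X.presheaf.stalk x)), ← map_one (jx x h), ← ht, map_add,
        map_add, hi', add_zero, map_mul, map_mul]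
    refine ⟨t * r, ?_⟩
    have hw' : w * jx x h s = jx x h r := hw
    rw [map_mul, ← hw', map_mul, map_mul, mul_left_comm, hts, mul_one]
  -- invariants of a point of the fibre
  haveI hPfin : {Q : Ideal B | Q.IsMaximal}.Finite := Different.finite_maximals A
  let gP : X → Ideal B := fun x => if h : f x = y then P x h else ⊥
  have hsfin : {x : X | f x = y}.Finite := by
    refine Set.Finite.of_finite_image (f := gP) (hPfin.subset ?_) ?_
    · rintro _ ⟨x, hx, rfl⟩
      simp only [gP, dif_pos (show f x = y from hx), Set.mem_ofPred_eq]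
      exact hPmax x hx
    · intro x hx x' hx' h
      simp only [gP, dif_pos (show f x = y from hx), dif_pos (show f x' = y from hx')] at h
      exact hPinj x x' hx hx' h
  refine ⟨Algebra.discr A bB, fun x => (normalizedFactors (differentIdeal A B)).count (gP x),
    hsfin.toFinset, hdisc, fun x => hsfin.mem_toFinset, fun x h => ?_, ?_, fun hu x => ?_⟩
  · simp only [gP, dif_pos h]
    letI := (jx x h).toAlgebra
    haveI := hPmax x h
    haveI := hPloc x h
    haveI hlo := Different.liesOver (A := A) (P x h)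
    letI : Algebra A (X.presheaf.stalk x) := (stalkTo h).toAlgebra
    haveI : IsScalarTower A B (X.presheaf.stalk x) :=
      IsScalarTower.of_algebraMap_eq fun a => (hjxA x h a).symm
    have he : Ideal.ramificationIdx (P x h) A =
        (Module.length (X.presheaf.stalk x) (X.presheaf.stalk x ⧸
          (maximalIdeal A).map (algebraMap A (X.presheaf.stalk x)))).toNat := by
      rw [ramificationIdx_eq_length (T := X.presheaf.stalk x) (P x h), ← hlo.over]
    let e₂ : (B ⧸ P x h) ≃+* X.residueField x := RingEquiv.ofBijective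
      (Ideal.Quotient.lift (P x h) ((X.residue x).hom.comp (jx x h)) fun z hz =>
        (IsLocalRing.residue_eq_zero_iff _).mpr hz)
      ⟨RingHom.lift_injective_of_ker_le_ideal (P x h) _ (fun z hz =>
          (IsLocalRing.residue_eq_zero_iff _).mp hz), fun w => by
        obtain ⟨z, hz⟩ := hres x h w
        exact ⟨Ideal.Quotient.mk _ z, hz⟩⟩
    have hspec := Different.count_spec (A := A) (P x h)
    subst h
    letI := (f.stalkMap x).hom.toAlgebra
    letI := (f.residueFieldMap x).hom.toAlgebra
    have hex : Ideal.ramificationIdx (maximalIdeal (X.presheaf.stalk x)) (Y.presheaf.stalk (f x)) =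
        Ideal.ramificationIdx (P x rfl) A := by
      haveI : IsLocalization.AtPrime (X.presheaf.stalk x) (maximalIdeal (X.presheaf.stalk x)) :=
        IsLocalization.self fun a ha => not_not.mp ha
      rw [he, ramificationIdx_eq_length (R := Y.presheaf.stalk (f x)) (T := X.presheaf.stalk x)
        (maximalIdeal (X.presheaf.stalk x))]
      have h1 : (maximalIdeal (X.presheaf.stalk x)).under (Y.presheaf.stalk (f x)) = maximalIdeal A :=
        IsLocalRing.maximalIdeal_comap (f.stalkMap x).hom
      rw [h1]
      exact congrArg (fun φ : A →+* X.presheaf.stalk x => (Module.length (X.presheaf.stalk x)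
        (X.presheaf.stalk x ⧸ (maximalIdeal A).map φ)).toNat) (stalkTo_rfl (f := f) x).symm
    letI : Field (A ⧸ maximalIdeal A) := Ideal.Quotient.field _
    let e₁ : (A ⧸ maximalIdeal A) ≃+* Y.residueField (f x) := RingEquiv.refl _
    have hsq : (algebraMap (Y.residueField (f x)) (X.residueField x)).comp (e₁ : _ →+* _) =
        (e₂ : _ →+* _).comp (algebraMap (A ⧸ maximalIdeal A) (B ⧸ P x rfl)) := by
      refine Ideal.Quotient.ringHom_ext (RingHom.ext fun a => ?_)
      change IsLocalRing.residue _ (f.stalkMap x a) = IsLocalRing.residue _ (jx x rfl (algebraMap A B a))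
      rw [hjxA, stalkTo_rfl]
    rw [hex]
    refine ⟨hspec.1, hspec.2.trans (and_congr ⟨fun hs => ?_, fun hs => ?_⟩ Iff.rfl)⟩
    · exact Algebra.IsSeparable.of_equiv_equiv e₁ e₂ hsq
    · refine Algebra.IsSeparable.of_equiv_equiv e₁.symm e₂.symm ?_
      refine RingHom.ext fun a => ?_
      obtain ⟨a, rfl⟩ := e₁.surjective a
      apply e₂.injective
      simpa using (DFunLike.congr_fun hsq a).symm
  · rw [← Different.length_disc (K := K) (L := L) bB, Different.length_different (A := A) (B := B), Finset.mul_sum]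
    refine (Finset.sum_bij (fun x _ => gP x) (fun x hx => ?_) (fun x hx x' hx' hxx => ?_)
      (fun Q hQ => ?_) (fun x hx => ?_)).symm
    · have h := hsfin.mem_toFinset.mp hx
      simp only [gP, dif_pos (show f x = y from h), Set.Finite.mem_toFinset, Set.mem_ofPred_eq]
      exact hPmax x h
    · have h : f x = y := hsfin.mem_toFinset.mp hx
      have h' : f x' = y := hsfin.mem_toFinset.mp hx'
      simp only [gP, dif_pos h, dif_pos h'] at hxx
      exact hPinj x x' h h' hxx
    · obtain ⟨x, h, hxQ⟩ := hPsurj Q (hPfin.mem_toFinset.mp hQ)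
      exact ⟨x, hsfin.mem_toFinset.mpr h, by simp only [gP, dif_pos h, hxQ]⟩
    · have h : f x = y := hsfin.mem_toFinset.mp hx
      have hgx : gP x = P x h := dif_pos h
      dsimp only
      rw [hgx, mul_left_comm]
      congr 1
      haveI := hPmax x h
      haveI := hPloc x h
      letI : Algebra k (B ⧸ P x h) := ((algebraMap A (B ⧸ P x h)).comp (algebraMap k A)).toAlgebra
      haveI : IsScalarTower k A (B ⧸ P x h) := IsScalarTower.of_algebraMap_eq fun _ => rfl
      letI := Curv2.resAlgebra k X x
      have hfl' := DetDegLib.length_tower k (R := A) (M := B ⧸ P x h)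
        (Module.length_ne_top_iff.mp (Different.length_residue_ne_top _))
      rw [← ENat.toNat_mul, mul_comm (DetDegLib.resDeg k A), ← hfl', toNat_length]
      let φ : (B ⧸ P x h) →ₗ[k] X.residueField x :=
        { toFun := Ideal.Quotient.lift (P x h) ((X.residue x).hom.comp (jx x h)) fun z hz =>
            (IsLocalRing.residue_eq_zero_iff _).mpr hz
          map_add' := fun a c => map_add _ a c
          map_smul' := fun c z => by
            obtain ⟨z, rfl⟩ := Ideal.Quotient.mk_surjective z
            rw [RingHom.id_apply, Algebra.smul_def, Algebra.smul_def, map_mul]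
            congr 1
            change IsLocalRing.residue _ (jx x h (algebraMap A B (Curv2.stalkMap k Y y c))) =
              IsLocalRing.residue _ (Curv2.stalkMap k X x c)
            rw [hjxA, stalkTo_stalkMap hf h] }
      have hφ : Function.Bijective φ := by
        refine ⟨RingHom.lift_injective_of_ker_le_ideal (P x h) (f := (X.residue x).hom.comp (jx x h))
          (fun z hz => (IsLocalRing.residue_eq_zero_iff _).mpr hz) (fun z hz =>
          (IsLocalRing.residue_eq_zero_iff _).mp hz), fun w => ?_⟩
        obtain ⟨z, hz⟩ := hres x h w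
        exact ⟨Ideal.Quotient.mk _ z, hz⟩
      exact (LinearEquiv.ofBijective φ hφ).finrank_eq.symm
  · have h0 : Module.length A (B ⧸ differentIdeal A B) = 0 := by
      rw [Different.length_disc (K := K) (L := L) bB, Ring.ord_of_isUnit hu]
    rw [Module.length_eq_zero_iff, Ideal.Quotient.subsingleton_iff, ← Ideal.one_eq_top] at h0
    simp only [h0, normalizedFactors_one, Multiset.count_zero]

end HurwitzLib
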