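import Groth.Agent.HurwitzLib.Rank
import Groth.Agent.DetDegLib.Main
import Groth.Agent.DetDegLib.Matrix
import Groth.Agent.AssPointLib.Tilde
import Mathlib.RingTheory.OrderOfVanishing.Basic

/-!
# The direct image of the structure sheaf has degree at most zero
-/

set_option autoImplicit false
set_option linter.style.haveILetI false
universe u

open CategoryTheory CategoryTheory.Limits AlgebraicGeometry TopologicalSpace Opposite DevissLib QCohLib
open DetDegLib
open scoped Matrix

noncomputable section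

namespace HurwitzLib

/-- Comparison of orders from a square relation. -/
theorem ord_eq {R : Type u} [CommRing R] [IsNoetherianRing R] [Ring.KrullDimLE 1 R] [IsDomain R] {n : ℕ}
    {F D h f' δ : R} (hF : F ≠ 0) (hh : h ≠ 0) (hf' : f' ≠ 0) (hδ : δ ≠ 0) (hD : D ≠ 0)
    (hrel : F ^ (2 * n) * h = D ^ 2 * δ * f') :
    2 * (((Ring.ord R D).toNat : ℤ) - (Ring.ord R (F ^ n)).toNat) =
      (Ring.ord R h).toNat - (Ring.ord R f').toNat - (Ring.ord R δ).toNat := by
  have fin : ∀ a : R, a ≠ 0 → Ring.ord R a ≠ ⊤ := fun a ha => Module.length_ne_top_iff.mpr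
    (isFiniteLength_quotient_span_singleton R (mem_nonZeroDivisors_of_ne_zero ha))
  have mul : ∀ a b : R, a ≠ 0 → b ≠ 0 →
      (Ring.ord R (a * b)).toNat = (Ring.ord R a).toNat + (Ring.ord R b).toNat := fun a b ha hb => by
    rw [Ring.ord_mul R (mem_nonZeroDivisors_of_ne_zero hb), ENat.toNat_add (fin a ha) (fin b hb)]
  have hFn : F ^ n ≠ 0 := pow_ne_zero n hF
  have e1 : (Ring.ord R (F ^ (2 * n) * h)).toNat = 2 * (Ring.ord R (F ^ n)).toNat + (Ring.ord R h).toNat := by
    rw [mul _ _ (pow_ne_zero _ hF) hh, mul_comm 2 n, pow_mul, pow_two, mul _ _ hFn hFn]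
    ring
  have e2 : (Ring.ord R (D ^ 2 * δ * f')).toNat =
      2 * (Ring.ord R D).toNat + (Ring.ord R δ).toNat + (Ring.ord R f').toNat := by
    rw [mul _ _ (mul_ne_zero (pow_ne_zero _ hD) hδ) hf', mul _ _ (pow_ne_zero _ hD) hδ, pow_two,
      mul _ _ hD hD]
    ring
  rw [hrel, e2] at e1
  omega

/-- The resulting inequality. -/
theorem ord_ineq {R : Type u} [CommRing R] [IsNoetherianRing R] [Ring.KrullDimLE 1 R] [IsDomain R] {n : ℕ}
    {F D h f' δ : R} (hF : F ≠ 0) (hh : h ≠ 0) (hf' : f' ≠ 0) (hδ : δ ≠ 0) (hD : D ≠ 0)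
    (hrel : F ^ (2 * n) * h = D ^ 2 * δ * f') :
    2 * (((Ring.ord R D).toNat : ℤ) - (Ring.ord R (F ^ n)).toNat) ≤
      (Ring.ord R h).toNat - (Ring.ord R f').toNat := by
  have := ord_eq hF hh hf' hδ hD hrel
  omega

variable {k : Type u} [Field k] {X Y : Scheme.{u}} [X.Over (Spec (CommRingCat.of k))]
  [Y.Over (Spec (CommRingCat.of k))] [IsProper (Y ↘ Spec (CommRingCat.of k))]
  [IsIntegral X] [IsIntegral Y] {f : X ⟶ Y} [IsFinite f] (e : f (genericPoint X) = genericPoint Y)

include e k in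
/-- The degree of the direct image of the structure sheaf through local discriminants. -/
theorem deg_push_eq (hY : topologicalKrullDim Y ≤ 1) (hn : Pi1.IsNormalScheme Y)
    (hsep : @Algebra.IsSeparable Y.functionField X.functionField _ _ (ffAlgebra e)) :
    letI := ffAlgebra e
    ∃ (n : ℕ) (U : Y.affineOpens) (hη : genericPoint Y ∈ U.1)
      (es : Fin n → Γ((Coh.push f).obj (Coh.structureModule X), U.1)) (T : Finset Y)
      (δ : ∀ x : Y, Y.presheaf.stalk x),
      0 < n ∧ FlatMod.IsFinLocFreeOfRank n ((Coh.push f).obj (Coh.structureModule X)) ∧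
      Module.finrank Y.functionField X.functionField = n ∧
      (∀ (y : Y) (hy : y ∈ U.1), FrameAt ((Coh.push f).obj (Coh.structureModule X)) es hy) ∧
      (∀ y, y ∈ T ↔ y ∉ U.1) ∧ (∀ y ∈ T, IsClosed ({y} : Set Y)) ∧
      (∃ r : Γ(Y, U.1), IsUnit r ∧ Y.presheaf.germ U.1 (genericPoint Y) hη r =
        Algebra.discr Y.functionField (fun i => tau e hη (es i))) ∧
      (∀ x : Y, ∃ (V : Y.affineOpens) (_ : x ∈ V.1) (hηV : genericPoint Y ∈ V.1)
        (b : Fin n → Γ((Coh.push f).obj (Coh.structureModule X), V.1)),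
        (∀ (z : Y) (hz : z ∈ V.1), FrameAt ((Coh.push f).obj (Coh.structureModule X)) b hz) ∧
        algebraMap (Y.presheaf.stalk x) Y.functionField (δ x) =
          Algebra.discr Y.functionField (fun i => tau e hηV (b i))) ∧
      2 * (Curv2.euler k Y ((Coh.push f).obj (Coh.structureModule X)) -
        n * Curv2.euler k Y (Coh.structureModule Y)) =
        - ∑ x ∈ T, (letI : Algebra k (Y.presheaf.stalk x) := Curv2.stalkAlgebra k Y x
          ((resDeg k (Y.presheaf.stalk x)).toNat : ℤ) * (Ring.ord (Y.presheaf.stalk x) (δ x)).toNat) := by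
  classical
  letI := ffAlgebra e
  haveI := hsep
  haveI := CurvLib.isNoetherian k (X := Y)
  haveI : Y.IsSeparated := ⟨by rw [← terminal.comp_from (Y ↘ Spec (CommRingCat.of k))]; infer_instance⟩
  let M := (Coh.push f).obj (Coh.structureModule X)
  let O := Coh.structureModule Y
  have hM := locFree_push e hY hn
  generalize CurvLib.genRank ((Coh.push f).obj (Coh.structureModule X)) = n at hM
  haveI : Coh.IsQCoh M := (CurvLib.isCoh_of_locFree hM).1
  haveI : Coh.IsQCoh O := QCohLib.isQCoh_unit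
  obtain ⟨U, es, hes, hass, -, -⟩ := exists_setup (k := k) hM hY
  have hwk : ∀ y : Y, Curv2.IsWeakAssPoint O y → y = genericPoint Y := fun y hy =>
    ((AssPointLib.weak_structureModule_of_isReduced y).mp hy _ ((genericPoint_spec Y).specializes trivial)).symm
  have hηU : genericPoint Y ∈ U.1 := hass _ ((AssPointLib.weak_structureModule_of_isReduced _).mpr fun y hy =>
    (hy.antisymm ((genericPoint_spec Y).specializes trivial)).eq)
  obtain ⟨B, hB⟩ := exists_basis e U.2 hηU es hes
  have hn0 : 0 < n := by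
    rcases Nat.eq_zero_or_pos n with h | h
    · subst h
      exact absurd ((B.repr.toEquiv.subsingleton).elim (1 : X.functionField) 0) one_ne_zero
    · exact h
  let Δ : Y.functionField := Algebra.discr Y.functionField B
  haveI : FiniteDimensional Y.functionField X.functionField := Module.Finite.of_basis B
  have hΔ : Δ ≠ 0 := Algebra.discr_not_zero_of_basis _ B
  obtain ⟨U₁, hU₁, r₁, hne₁, hr₁, hr₁u⟩ := exists_isUnit_germ_eq Y Δ hΔ
  let U' : Y.affineOpens := ⟨U.1 ⊓ U₁, U.2.inf hU₁⟩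
  have hη₁ : genericPoint Y ∈ U₁ :=
    ((genericPoint_spec Y).mem_open_set_iff U₁.isOpen).mpr (by simpa using hne₁)
  have hη' : genericPoint Y ∈ U'.1 := ⟨hηU, hη₁⟩
  let e' : Fin n → Γ(M, U'.1) := fun i => M.presheaf.map (homOfLE (inf_le_left : U'.1 ≤ U.1)).op (es i)
  have he' : ∀ (y : Y) (hy : y ∈ U'.1), FrameAt M e' hy := fun y hy =>
    (frameAt_res (M := M) (inf_le_left : U'.1 ≤ U.1) es hy).mpr (hes y _)
  let r : Γ(Y, U'.1) := Y.presheaf.map (homOfLE (inf_le_right : U'.1 ≤ U₁)).op r₁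
  have hr : IsUnit r := hr₁u.map (Y.presheaf.map (homOfLE (inf_le_right : U'.1 ≤ U₁)).op).hom
  have hrΔ : Y.presheaf.germ U'.1 (genericPoint Y) hη' r = Δ :=
    (TopCat.Presheaf.germ_res_apply Y.presheaf _ _ hη' r₁).trans hr₁
  have hT' : topologicalKrullDim ↥((U'.1 : Set Y)ᶜ) ≤ 0 :=
    CurvLib.dim_le_zero_of_no_maximal hY U'.1.isOpen.isClosed_compl fun x hx =>
      ⟨genericPoint Y, (genericPoint_spec Y).specializes trivial, fun h => hx (h ▸ hη')⟩
  have hTfin := (CurvLib.finite_isClosed_of_dim_le_zero U'.1.isOpen.isClosed_compl hT').1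
  have hwk' : ∀ y : Y, Curv2.IsWeakAssPoint O y → y ∈ U'.1 := fun y hy => hwk y hy ▸ hη'
  let K := Y.functionField
  have loc : ∀ x : Y, ∃ (F f' h : Y.presheaf.stalk x) (G : Matrix (Fin n) (Fin n) (Y.presheaf.stalk x)),
      (∃ b : Fin n → (St x).obj M,
        Function.Bijective (fun c : Fin n → Y.presheaf.stalk x => ∑ i, c i • b i) ∧
        F ∈ nonZeroDivisors (Y.presheaf.stalk x) ∧ G.det ∈ nonZeroDivisors (Y.presheaf.stalk x) ∧
        Function.Injective ((St x).map (eta U'.1 M)).hom ∧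
        ∀ j, F • gm (Pu U'.1 M) x (show x ∈ (⊤ : Y.Opens) from trivial) (eP (e' j)) =
          ∑ i, G i j • ((St x).map (eta U'.1 M)).hom (b i)) ∧
      (∃ b : Fin 1 → (St x).obj O,
        Function.Bijective (fun c : Fin 1 → Y.presheaf.stalk x => ∑ i, c i • b i) ∧
        f' ∈ nonZeroDivisors (Y.presheaf.stalk x) ∧ h ∈ nonZeroDivisors (Y.presheaf.stalk x) ∧
        Function.Injective ((St x).map (eta U'.1 O)).hom ∧
        f' • gm (Pu U'.1 O) x (show x ∈ (⊤ : Y.Opens) from trivial) (eP (M := O) r) =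
          h • ((St x).map (eta U'.1 O)).hom (b 0)) ∧
      ∃ δ : Y.presheaf.stalk x, (∃ (V : Y.affineOpens) (_ : x ∈ V.1) (hηV : genericPoint Y ∈ V.1)
          (b : Fin n → Γ(M, V.1)), (∀ (z : Y) (hz : z ∈ V.1), FrameAt M b hz) ∧
          algebraMap (Y.presheaf.stalk x) K δ = Algebra.discr K (fun i => tau e hηV (b i))) ∧
        2 * (((Ring.ord _ G.det).toNat : ℤ) - (Ring.ord _ (F ^ n)).toNat) =
          (Ring.ord _ h).toNat - (Ring.ord _ f').toNat - (Ring.ord _ δ).toNat := by
    intro x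
    obtain ⟨V, hxV, b, hb⟩ := exists_good_affine (k := k) hM x
    obtain ⟨g, hg, hgU⟩ := exists_nzd V.2 U'.1 fun y _ hy => hwk' y hy
    let W : Y.affineOpens := ⟨V.1 ⊓ U'.1, V.2.inf U'.2⟩
    have hgW : Y.basicOpen g ≤ W.1 := le_inf (Y.basicOpen_le g) hgU
    have hWV : W.1 ≤ V.1 := inf_le_left
    have hWU : W.1 ≤ U'.1 := inf_le_right
    have hηV : genericPoint Y ∈ V.1 :=
      ((genericPoint_spec Y).mem_open_set_iff V.1.isOpen).mpr ⟨x, trivial, hxV⟩
    have hηW : genericPoint Y ∈ W.1 := ⟨hηV, hη'⟩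
    let eW : Fin n → Γ(M, W.1) := fun j => M.presheaf.map (homOfLE hWU).op (e' j)
    let bW : Fin n → Γ(M, W.1) := fun j => M.presheaf.map (homOfLE hWV).op (b j)
    have hbW : ∀ (y : Y) (hy : y ∈ W.1), FrameAt M bW hy := fun y hy =>
      (frameAt_res (M := M) hWV b hy).mpr (hb y _)
    choose C hC using fun j => (frame_bijective W.2 bW hbW).2 (eW j)
    let G' : Matrix (Fin n) (Fin n) Γ(Y, W.1) := Matrix.of fun i j => C j i
    have hG' : ∀ j, eW j = ∑ i, G' i j • bW i := fun j => (hC j).symm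
    obtain ⟨N, H, hH⟩ := exists_clear_matrix V.2 W.2 hWV g hgW G'
    let ρ : Γ(Y, V.1) →+* Γ(Y, W.1) := (Y.presheaf.map (homOfLE hWV).op).hom
    let rW : Γ(Y, W.1) := Y.presheaf.map (homOfLE hWU).op r
    obtain ⟨N', h, hh⟩ := exists_lift (M := O) V.2 W.2 hWV g hgW rW
    have hh' : ρ h = ρ g ^ N' * rW := hh
    let κ : Γ(Y, V.1) →+* K := (Y.presheaf.germ V.1 (genericPoint Y) hηV).hom
    let κW : Γ(Y, W.1) →+* K := (Y.presheaf.germ W.1 (genericPoint Y) hηW).hom
    have hκ : ∀ a, κW (ρ a) = κ a := fun a => TopCat.Presheaf.germ_res_apply Y.presheaf _ _ hηW a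
    have hκi : Function.Injective κ := germ_injective_of_isIntegral Y _ hηV
    have hκg : κ g ≠ 0 := fun h0 =>
      haveI : Nonempty V.1 := ⟨⟨x, hxV⟩⟩
      haveI : IsDomain Γ(Y, V.1) := IsIntegral.component_integral _
      nonZeroDivisors.ne_zero hg (hκi (h0.trans (map_zero κ).symm))
    have hrW : κW rW = Δ := (TopCat.Presheaf.germ_res_apply Y.presheaf _ _ hηW r).trans hrΔ
    have hκh : κ h = κ g ^ N' * Δ := by
      rw [← hκ h, hh', map_mul, map_pow, hκ g, hrW]
    -- the relation of discriminants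
    let bK : Fin n → X.functionField := fun i => tau e hηV (b i)
    have hrelj : ∀ j, algebraMap K X.functionField (κ g ^ N) * B j =
        ∑ i, bK i * algebraMap K X.functionField (κ (H i j)) := by
      intro j
      have h1 : tau e hηW (ρ g ^ N • eW j) = tau e hηW (∑ i, ρ (H i j) • bW i) := by
        refine congrArg (tau e hηW) ?_
        rw [hG', Finset.smul_sum]
        exact Finset.sum_congr rfl fun i _ =>
          (smul_smul _ _ _).trans (congrArg (· • bW i) (congrFun (congrFun hH i) j).symm)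
      rw [tau_smul, tau_sum] at h1
      rw [map_pow] at h1
      rw [tau_res e hWU hηW, tau_res e (inf_le_left : U'.1 ≤ U.1) hη', ← hB] at h1
      rw [show (Y.presheaf.germ W.1 (genericPoint Y) hηW).hom (ρ g) = κ g from hκ g] at h1
      rw [h1]
      exact Finset.sum_congr rfl fun i _ => (tau_smul e hηW (ρ (H i j)) (bW i)).trans
        ((congrArg₂ (fun a b => algebraMap K X.functionField a * b) (hκ (H i j))
          (tau_res e hWV hηW (b i))).trans (mul_comm _ _))
    have hdisc : (κ g ^ N) ^ (2 * n) * Δ = κ H.det ^ 2 * Algebra.discr K bK := by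
      have h1 := Algebra.discr_of_matrix_vecMul bK (H.map κ) (A := K)
      have h2 := Algebra.discr_of_matrix_vecMul (B : Fin n → X.functionField)
        (κ g ^ N • (1 : Matrix (Fin n) (Fin n) K)) (A := K)
      have h3 : (B : Fin n → X.functionField) ᵥ* (κ g ^ N • (1 : Matrix (Fin n) (Fin n) K)).map
          (algebraMap K X.functionField) = bK ᵥ* (H.map κ).map (algebraMap K X.functionField) := by
        funext j
        simp only [Matrix.vecMul, dotProduct, Matrix.map_apply]
        rw [Finset.sum_eq_single j (fun i _ hi => by simp [Matrix.one_apply_ne hi])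
          (fun hj => absurd (Finset.mem_univ j) hj)]
        rw [Matrix.smul_apply, Matrix.one_apply_eq, smul_eq_mul, mul_one, mul_comm]
        exact hrelj j
      rw [h3, h1, Matrix.det_smul, Matrix.det_one, mul_one, Fintype.card_fin] at h2
      rw [RingHom.map_det, RingHom.mapMatrix_apply, h2, pow_mul']
    have hκD : κ H.det ≠ 0 := fun h0 => by
      rw [h0, zero_pow two_ne_zero, zero_mul] at hdisc
      exact mul_ne_zero (pow_ne_zero _ (pow_ne_zero _ hκg)) hΔ hdisc
    have hdb : Algebra.discr K bK ≠ 0 := fun h0 => by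
      rw [h0, mul_zero] at hdisc
      exact mul_ne_zero (pow_ne_zero _ (pow_ne_zero _ hκg)) hΔ hdisc
    -- integrality
    let R := Y.presheaf.stalk x
    let γ : Γ(Y, V.1) →+* R := (Y.presheaf.germ V.1 x hxV).hom
    have hγ : ∀ a, algebraMap R K (γ a) = κ a := fun a =>
      TopCat.Presheaf.germ_stalkSpecializes_apply Y.presheaf hxV
        ((genericPoint_spec Y).specializes trivial) a
    letI : Algebra Γ(Y, V.1) K := κ.toAlgebra
    letI : Algebra Γ(Y, V.1) X.functionField := ((algebraMap K X.functionField).comp κ).toAlgebra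
    haveI : IsScalarTower Γ(Y, V.1) K X.functionField := IsScalarTower.of_algebraMap_eq fun _ => rfl
    have hbint : ∀ i, IsIntegral Γ(Y, V.1) (bK i) := fun i => by
      have hfin : (f.app V.1).hom.Finite := IsFinite.finite_app (f := f) V.1 V.2
      obtain ⟨p, hp, hp0⟩ := hfin.to_isIntegral (show Γ(X, f ⁻¹ᵁ V.1) from b i)
      refine ⟨p, hp, ?_⟩
      have h4 := congrArg (X.presheaf.germ (f ⁻¹ᵁ V.1) (genericPoint X) (mem_preimage e hηV)).hom hp0
      rw [Polynomial.hom_eval₂, map_zero] at h4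
      have hc : algebraMap Γ(Y, V.1) X.functionField =
          (X.presheaf.germ (f ⁻¹ᵁ V.1) (genericPoint X) (mem_preimage e hηV)).hom.comp (f.app V.1).hom :=
        RingHom.ext fun a => alg_germ e hηV a
      rw [hc]
      exact h4
    obtain ⟨q, hq, hq0⟩ := Algebra.discr_isIntegral (R := Γ(Y, V.1)) (K := K) hbint
    haveI := (hn x).2
    obtain ⟨δ, hδ⟩ := IsIntegrallyClosed.isIntegral_iff.mp
      (show IsIntegral R (Algebra.discr K bK) from ⟨q.map γ, hq.map γ, by
        rw [Polynomial.eval₂_map]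
        rwa [show (algebraMap R K).comp γ = algebraMap Γ(Y, V.1) K from RingHom.ext hγ]⟩)
    have hinj : Function.Injective (algebraMap R K) := IsFractionRing.injective R K
    have nz : ∀ a, κ a ≠ 0 → γ a ≠ 0 := fun a ha h0 => ha (by rw [← hγ a, h0, map_zero])
    have hF : γ (g ^ N) ≠ 0 := nz _ (by rw [map_pow]; exact pow_ne_zero _ hκg)
    have hf' : γ (g ^ N') ≠ 0 := nz _ (by rw [map_pow]; exact pow_ne_zero _ hκg)
    have hhx : γ h ≠ 0 := nz _ (by rw [hκh]; exact mul_ne_zero (pow_ne_zero _ hκg) hΔ)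
    have hD : γ H.det ≠ 0 := nz _ hκD
    have hδ0 : δ ≠ 0 := fun h0 => hdb (by rw [← hδ, h0, map_zero])
    have hrelR : γ (g ^ N) ^ (2 * n) * γ h = γ H.det ^ 2 * δ * γ (g ^ N') := hinj (by
      simp only [map_mul, map_pow, hγ, hδ]
      rw [hκh]
      linear_combination (κ g ^ N') * hdisc)
    haveI : Ring.KrullDimLE 1 R := CurveAmpLib.krullDimLE_stalk hY x
    haveI : IsNoetherianRing R := inferInstance
    have hdγ : (H.map γ).det = γ H.det := (RingHom.map_det γ H).symm
    refine ⟨γ (g ^ N), γ (g ^ N'), γ h, H.map γ,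
      ⟨fun i => gm M x hxV (b i), hb x hxV, mem_nonZeroDivisors_of_ne_zero hF,
        hdγ ▸ mem_nonZeroDivisors_of_ne_zero hD, eta_injective V.2 b hb hg hgU hxV, fun j => ?_⟩,
      ⟨fun _ => gm O x hxV (1 : Γ(Y, V.1)),
        (frameAt_one_iff (M := O) (1 : Γ(Y, V.1)) hxV).mpr ((AmpleLib.one_genOn V.1).genAt hxV),
        mem_nonZeroDivisors_of_ne_zero hf', mem_nonZeroDivisors_of_ne_zero hhx,
        eta_injective (n := 1) (M := O) V.2 (fun _ => (1 : Γ(Y, V.1)))
          (fun y hy => (frameAt_one_iff (M := O) (1 : Γ(Y, V.1)) hy).mpr ((AmpleLib.one_genOn V.1).genAt hy))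
          hg hgU hxV, ?_⟩, δ, ⟨V, hxV, hηV, b, hb, hδ⟩, hdγ ▸ ord_eq hF hhx hf' hδ0 hD hrelR⟩
    · have hz : Y.presheaf.map (homOfLE hWV).op (g ^ N) • eW j =
          M.presheaf.map (homOfLE hWV).op (∑ i, H i j • b i) := by
        rw [map_sum, hG', Finset.smul_sum]
        refine Finset.sum_congr rfl fun i _ => ?_
        rw [QCohLib.map_smul', smul_smul]
        refine congrArg (· • bW i) ?_
        rw [map_pow]
        exact (congrFun (congrFun hH i) j).symm
      refine (gm_rel hxV (g ^ N) (e' j) (∑ i, H i j • b i) hz).trans ?_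
      rw [gm_combo M b hxV, map_sum]
      exact Finset.sum_congr rfl fun i _ => map_smul _ _ _
    · have hz : Y.presheaf.map (homOfLE hWV).op (g ^ N') • O.presheaf.map (homOfLE hWU).op r =
          O.presheaf.map (homOfLE hWV).op ((show Γ(Y, V.1) from h) • (show Γ(O, V.1) from (1 : Γ(Y, V.1)))) := by
        rw [map_pow]
        refine (hh.symm.trans ?_)
        exact congrArg (O.presheaf.map (homOfLE hWV).op) (mul_one (show Γ(Y, V.1) from h)).symm
      refine (gm_rel (M := O) hxV (g ^ N') r _ hz).trans ?_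
      rw [gm_smul, map_smul]
  choose F f' h G hE hO δ hδ hrel using loc
  have h1 := euler_frame k hY (CurvLib.isCoh_of_locFree hM) e' hTfin hT' he' F G fun x _ => by
    obtain ⟨b, hb, hf, hG, hη, hrel'⟩ := hE x
    exact ⟨b, hb, hf, hG, hη, hrel'⟩
  have h2 := euler_frame (n := 1) k hY (DevissLib.isCoh_structureModule Y) (fun _ => r) hTfin hT'
    (fun y hy => (frameAt_one_iff (M := O) r hy).mpr
      ((show (r • (show Γ(O, U'.1) from (1 : Γ(Y, U'.1)))) = r from mul_one r) ▸
        (AmpleLib.genAt_smul_iff (M := O) r (1 : Γ(Y, U'.1)) hy ((AmpleLib.one_genOn U'.1).genAt hy)).mpr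
          ((Y.mem_basicOpen r y hy).mpr (hr.map (Y.presheaf.germ U'.1 y hy).hom))))
    f' (fun x => Matrix.of fun _ _ => h x) fun x _ => by
      obtain ⟨b, hb, hf, hh, hη, hrel'⟩ := hO x
      refine ⟨b, hb, hf, by simpa [Matrix.det_fin_one] using hh, hη, fun j => ?_⟩
      rw [Fin.sum_univ_one]
      exact hrel'
  refine ⟨n, U', hη', e', hTfin.toFinset, δ, hn0, hM, ?_, he', fun y => hTfin.mem_toFinset,
    fun y hy => (CurvLib.finite_isClosed_of_dim_le_zero U'.1.isOpen.isClosed_compl hT').2 y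
      (hTfin.mem_toFinset.mp hy), ⟨r, hr, ?_⟩, hδ, ?_⟩
  · exact (Module.finrank_eq_card_basis B).trans (Fintype.card_fin n)
  · rw [hrΔ]
    exact congrArg (Algebra.discr K) (funext fun i => (hB i).trans (tau_res e _ hη' (es i)).symm)
  rw [h1]
  simp only [Nat.cast_one, one_mul, sub_self, Matrix.det_fin_one, Matrix.of_apply, pow_one] at h2
  rw [Finset.mul_sum, eq_neg_iff_add_eq_zero, ← Finset.sum_add_distrib]
  refine (Finset.sum_congr rfl fun x _ => ?_).trans h2.symm
  simp only [degTerm]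
  linear_combination ((letI : Algebra k (Y.presheaf.stalk x) := Curv2.stalkAlgebra k Y x
    ((resDeg k (Y.presheaf.stalk x)).toNat : ℤ))) * hrel x

include e k in
theorem deg_push_nonpos (hY : topologicalKrullDim Y ≤ 1) (hn : Pi1.IsNormalScheme Y)
    (hsep : @Algebra.IsSeparable Y.functionField X.functionField _ _ (ffAlgebra e)) :
    ∃ n : ℕ, 0 < n ∧ FlatMod.IsFinLocFreeOfRank n ((Coh.push f).obj (Coh.structureModule X)) ∧
      Curv2.euler k Y ((Coh.push f).obj (Coh.structureModule X)) -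
      n * Curv2.euler k Y (Coh.structureModule Y) ≤ 0 := by
  obtain ⟨n, U, hη, es, T, δ, hn0, hM, -, -, -, -, -, -, hsum⟩ := deg_push_eq (k := k) e hY hn hsep
  refine ⟨n, hn0, hM, ?_⟩
  have : (0 : ℤ) ≤ ∑ x ∈ T, (letI : Algebra k (Y.presheaf.stalk x) := Curv2.stalkAlgebra k Y x
      ((resDeg k (Y.presheaf.stalk x)).toNat : ℤ) * (Ring.ord (Y.presheaf.stalk x) (δ x)).toNat) :=
    Finset.sum_nonneg fun x _ => mul_nonneg (Int.natCast_nonneg _) (Int.natCast_nonneg _)
  omega

end HurwitzLib
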