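import Groth.Agent.S0612
import Groth.Agent.RichLib.TameDiff
import Mathlib.RingTheory.DedekindDomain.Different
import Mathlib.RingTheory.DedekindDomain.PID
import Mathlib.RingTheory.Localization.NormTrace
import Mathlib.RingTheory.RamificationInertia.Ramification
import Mathlib.RingTheory.OrderOfVanishing.Basic

/-!
# Different and discriminant over a discrete valuation ring
-/

set_option autoImplicit false
set_option linter.style.haveILetI false
set_option linter.overlappingInstances false
set_option linter.unusedSectionVars false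
universe u

open IsLocalRing UniqueFactorizationMonoid
open scoped nonZeroDivisors Pointwise

noncomputable section

namespace HurwitzLib.Different

attribute [local instance] FractionRing.liftAlgebra FractionRing.isScalarTower_liftAlgebra

variable {A B : Type u} [CommRing A] [IsDomain A] [IsDiscreteValuationRing A] [CommRing B]
  [IsDomain B] [IsDedekindDomain B] [Algebra A B] [Module.Finite A B] [Module.IsTorsionFree A B]

theorem liesOver (P : Ideal B) [P.IsMaximal] : P.LiesOver (maximalIdeal A) :=
  ⟨(eq_maximalIdeal (Ideal.isMaximal_comap_of_isIntegral_of_isMaximal P)).symm⟩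

theorem finite_maximals (A : Type u) {B : Type u} [CommRing A] [IsDomain A] [IsDiscreteValuationRing A]
    [CommRing B] [IsDedekindDomain B] [Algebra A B] [Module.Finite A B] [Module.IsTorsionFree A B] :
    {P : Ideal B | P.IsMaximal}.Finite :=
  (IsDedekindDomain.primesOver_finite (maximalIdeal A) B).subset fun P hP =>
    haveI : P.IsMaximal := hP
    ⟨hP.isPrime, liesOver P⟩

theorem isPID (A : Type u) {B : Type u} [CommRing A] [IsDomain A] [IsDiscreteValuationRing A]
    [CommRing B] [IsDedekindDomain B] [Algebra A B] [Module.Finite A B] [Module.IsTorsionFree A B] :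
    IsPrincipalIdealRing B := .of_finite_maximals (finite_maximals A)

theorem pow_dvd_iff {I : Ideal B} (hI : I ≠ ⊥) (P : Ideal B) [P.IsMaximal] (hP : P ≠ ⊥) (j : ℕ) :
    P ^ j ∣ I ↔ j ≤ (normalizedFactors I).count P := by
  have hirr : Irreducible P := (Ideal.prime_of_isPrime hP inferInstance).irreducible
  rw [dvd_iff_normalizedFactors_le_normalizedFactors (pow_ne_zero _ hP) hI, normalizedFactors_pow,
    normalizedFactors_irreducible hirr, normalize_eq, Multiset.nsmul_singleton,
    ← Multiset.le_count_iff_replicate_le]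

/-- The exponent of the different: at least `e - 1`, with equality exactly in the tame case. -/
theorem count_spec [Algebra.IsSeparable (FractionRing A) (FractionRing B)] (P : Ideal B) [P.IsMaximal]
    [hlo : P.LiesOver (maximalIdeal A)] :
    P.ramificationIdx A - 1 ≤ (normalizedFactors (differentIdeal A B)).count P ∧
      ((normalizedFactors (differentIdeal A B)).count P = P.ramificationIdx A - 1 ↔
        (Algebra.IsSeparable (A ⧸ maximalIdeal A) (B ⧸ P) ∧
          ((P.ramificationIdx A : ℕ) : A ⧸ maximalIdeal A) ≠ 0)) := by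
  haveI := isPID A (B := B)
  set p := maximalIdeal A with hpdef
  have hp0 : p ≠ ⊥ := IsDiscreteValuationRing.not_a_field A
  have hmap0 : p.map (algebraMap A B) ≠ ⊥ :=
    (Ideal.map_eq_bot_iff_of_injective (FaithfulSMul.algebraMap_injective A B)).not.mpr hp0
  have hP0 : P ≠ ⊥ := Ideal.ne_bot_of_liesOver_of_ne_bot hp0 P
  have hd0 : differentIdeal A B ≠ ⊥ := differentIdeal_ne_bot
  set e := P.ramificationIdx A with hedef
  have hec : e = (normalizedFactors (p.map (algebraMap A B))).count P := by
    rw [hedef, ← Ideal.ramificationIdx'_eq_ramificationIdx p P hp0,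
      Ideal.IsDedekindDomain.ramificationIdx'_eq_normalizedFactors_count hmap0 inferInstance hP0]
  obtain ⟨Q, hPQ, hQ⟩ := Ideal.eq_prime_pow_mul_coprime hmap0 P
  rw [← hec] at hQ
  have he1 : 1 ≤ e := hec ▸ (pow_dvd_iff hmap0 P hP0 1).mp (by
    rw [pow_one, Ideal.dvd_iff_le]
    exact Ideal.map_le_iff_le_comap.mpr hlo.over.le)
  have hle : e - 1 ≤ (normalizedFactors (differentIdeal A B)).count P :=
    (pow_dvd_iff hd0 P hP0 _).mp (pow_sub_one_dvd_differentIdeal A P e hp0 (Dvd.intro Q hQ.symm))
  refine ⟨hle, ?_⟩
  obtain ⟨π, hπP⟩ := (IsPrincipalIdealRing.principal P).principal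
  rw [← Ideal.span] at hπP
  have hπ : π ≠ 0 := fun h => hP0 (by rw [hπP, h, Ideal.span_singleton_eq_bot])
  letI : Field (A ⧸ p) := Ideal.Quotient.field p
  letI : Field (B ⧸ P) := Ideal.Quotient.field P
  haveI : Module.Finite (A ⧸ p) (B ⧸ P) := .of_restrictScalars_finite A _ _
  have hQle : p ≤ Q.comap (algebraMap A B) :=
    Ideal.map_le_iff_le_comap.mp (hQ ▸ Ideal.mul_le_right)
  have hPle : p ≤ (P ^ e).comap (algebraMap A B) :=
    Ideal.map_le_iff_le_comap.mp (hQ ▸ Ideal.mul_le_left)
  letI : Algebra (A ⧸ p) (B ⧸ Q) := Ideal.Quotient.algebraQuotientOfLEComap hQle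
  haveI : IsScalarTower A (A ⧸ p) (B ⧸ Q) := .of_algebraMap_eq' rfl
  haveI : Module.Finite (A ⧸ p) (B ⧸ Q) := .of_restrictScalars_finite A _ _
  letI : Algebra (A ⧸ p) (B ⧸ P ^ e) := Ideal.Quotient.algebraQuotientOfLEComap hPle
  haveI : IsScalarTower A (A ⧸ p) (B ⧸ P ^ e) := .of_algebraMap_eq' rfl
  haveI : Module.Finite (A ⧸ p) (B ⧸ P ^ e) := .of_restrictScalars_finite A _ _
  have hcop : IsCoprime (P ^ e) Q :=
    (Ideal.isCoprime_iff_sup_eq.mpr hPQ).pow_left
  let ψ : (B ⧸ p.map (algebraMap A B)) ≃ₐ[A ⧸ p] ((B ⧸ P ^ e) × B ⧸ Q) :=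
    { __ := (Ideal.quotEquivOfEq hQ).trans (Ideal.quotientMulEquivQuotientProd (P ^ e) Q hcop),
      commutes' := Quotient.ind fun _ ↦ rfl }
  have htr : ∀ x ∈ Q, Ideal.Quotient.mk p (Algebra.intTrace A B x) =
      e • Algebra.trace (A ⧸ p) (B ⧸ P) (Ideal.Quotient.mk P x) := fun x hx => by
    rw [← Algebra.trace_quotient_eq_of_isDedekindDomain, ← Algebra.trace_eq_of_algEquiv ψ,
      show ψ (Ideal.Quotient.mk _ x) = (Ideal.Quotient.mk (P ^ e) x, Ideal.Quotient.mk Q x) from rfl,
      Algebra.trace_prod_apply, Ideal.Quotient.eq_zero_iff_mem.mpr hx, map_zero, add_zero,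
      RichLib.TameDiff.trace_quot_pow p P π hπP hπ e (hQ ▸ Ideal.mul_le_left) x e le_rfl _ rfl]
  have hkey : P ^ e ∣ differentIdeal A B ↔ ∀ x ∈ Q, Algebra.intTrace A B x ∈ p := by
    constructor
    · intro h x hxQ
      by_contra hx
      exact not_dvd_differentIdeal_of_intTrace_not_mem A (P ^ e) Q hQ.symm x hxQ hx h
    · intro h
      let K := FractionRing A
      let L := FractionRing B
      have : IsLocalization (Algebra.algebraMapSubmonoid B A⁰) L :=
        IsIntegralClosure.isLocalization _ K _ _
      have : FiniteDimensional K L := .of_isLocalization A B A⁰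
      rw [Ideal.dvd_iff_le, differentialIdeal_le_iff (K := K) (L := L) (pow_ne_zero _ hP0),
        Submodule.map_le_iff_le_comap]
      intro x hx
      rw [Submodule.restrictScalars_mem, FractionalIdeal.mem_coe,
        FractionalIdeal.mem_inv_iff (by simpa using pow_ne_zero _ hP0)] at hx
      rw [Submodule.mem_comap, LinearMap.coe_restrictScalars, ← FractionalIdeal.coe_one,
        ← div_self (G₀ := FractionalIdeal A⁰ K) (a := p) (by simpa using hp0),
        FractionalIdeal.mem_coe, FractionalIdeal.mem_div_iff_of_ne_zero (by simpa using hp0)]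
      intro y hy'
      obtain ⟨y, hy, rfl⟩ := (FractionalIdeal.mem_coeIdeal _).mp hy'
      have hyQ : algebraMap A B y ∈ P ^ e * Q := hQ ▸ Ideal.mem_map_of_mem _ hy
      obtain ⟨z, hzQ, hz⟩ : ∃ z ∈ Q, algebraMap B L z = x * algebraMap B L (algebraMap A B y) := by
        refine Submodule.mul_induction_on hyQ (fun a ha c hc => ?_) fun a c ⟨z, hz, hz'⟩ ⟨w, hw, hw'⟩ =>
          ⟨z + w, Q.add_mem hz hw, by rw [map_add, hz', hw', map_add, mul_add]⟩
        obtain ⟨z, hz⟩ := (FractionalIdeal.mem_one_iff _).mp
          (hx (algebraMap B L a) ((FractionalIdeal.mem_coeIdeal _).mpr ⟨a, ha, rfl⟩))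
        exact ⟨z * c, Q.mul_mem_left _ hc, by rw [map_mul, hz, map_mul, mul_assoc]⟩
      have : Algebra.trace K L (algebraMap B L z) ∈ (p : FractionalIdeal A⁰ K) := by
        rw [← Algebra.algebraMap_intTrace (A := A)]
        exact (FractionalIdeal.mem_coeIdeal _).mpr ⟨_, h z hzQ, rfl⟩
      rwa [mul_comm, ← smul_eq_mul, ← map_smul, Algebra.smul_def, mul_comm,
        ← IsScalarTower.algebraMap_apply A K L, IsScalarTower.algebraMap_apply A B L, ← hz]
  have hsurj : ∀ y : B ⧸ P, ∃ x ∈ Q, Ideal.Quotient.mk P x = y := by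
    intro y
    obtain ⟨x, rfl⟩ := Ideal.Quotient.mk_surjective y
    obtain ⟨a, ha, c, hc, hac⟩ := Submodule.mem_sup.mp (hPQ ▸ Submodule.mem_top : x ∈ P ⊔ Q)
    exact ⟨c, hc, by rw [← hac, map_add, Ideal.Quotient.eq_zero_iff_mem.mpr ha, zero_add]⟩
  have hsep : (∀ x ∈ Q, Algebra.intTrace A B x ∈ p) ↔
      ¬ (Algebra.IsSeparable (A ⧸ p) (B ⧸ P) ∧ ((e : ℕ) : A ⧸ p) ≠ 0) := by
    constructor
    · rintro h ⟨hs, hne⟩
      apply Algebra.trace_ne_zero (A ⧸ p) (B ⧸ P)
      refine LinearMap.ext fun y => ?_
      obtain ⟨x, hxQ, rfl⟩ := hsurj y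
      have := htr x hxQ
      rw [Ideal.Quotient.eq_zero_iff_mem.mpr (h x hxQ), nsmul_eq_mul] at this
      simpa [hne] using this.symm
    · intro h x hxQ
      rw [← Ideal.Quotient.eq_zero_iff_mem, htr x hxQ, nsmul_eq_mul]
      by_cases hs : Algebra.IsSeparable (A ⧸ p) (B ⧸ P)
      · rw [show ((e : ℕ) : A ⧸ p) = 0 by tauto, zero_mul]
      · rw [Algebra.trace_eq_zero_of_not_isSeparable hs, LinearMap.zero_apply, mul_zero]
  rw [← not_iff_not, ← hsep, ← hkey, pow_dvd_iff hd0 P hP0]
  omega

/-- Lengths of quotients by principal ideals. -/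
theorem length_quot (d : B) (hd : d ≠ 0) :
    Module.length A (B ⧸ Ideal.span {d}) =
      ((normalizedFactors (Ideal.span {d})).map fun P => Module.length A (B ⧸ P)).sum := by
  haveI := isPID A (B := B)
  induction d using UniqueFactorizationMonoid.induction_on_prime with
  | h₁ => exact absurd rfl hd
  | h₂ x hx =>
    rw [Ideal.span_singleton_eq_top.mpr hx, ← Ideal.one_eq_top, normalizedFactors_one,
      Multiset.map_zero, Multiset.sum_zero, Module.length_eq_zero_iff]
    rw [Ideal.one_eq_top]
    exact Ideal.Quotient.subsingleton_iff.mpr rfl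
  | h₃ a q ha hq ih =>
    have hq0 : (Ideal.span {q} : Ideal B) ≠ 0 := by
      simpa [Ideal.zero_eq_bot, Ideal.span_singleton_eq_bot] using hq.ne_zero
    have ha0 : (Ideal.span {a} : Ideal B) ≠ 0 := by
      simpa [Ideal.zero_eq_bot, Ideal.span_singleton_eq_bot] using ha
    have h1 := Module.length_eq_add_of_exact ((Ideal.mulQuot q (Ideal.span {a})).restrictScalars A)
      ((Ideal.quotOfMul q (Ideal.span {a})).restrictScalars A)
      (Ideal.mulQuot_injective _ (mem_nonZeroDivisors_of_ne_zero hq.ne_zero))
      (Ideal.quotOfMul_surjective _) (Ideal.exact_mulQuot_quotOfMul _)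
    have h2 : q • Ideal.span {a} = Ideal.span {q * a} := by
      rw [← Submodule.ideal_span_singleton_smul, smul_eq_mul, Ideal.span_singleton_mul_span_singleton]
    rw [(Submodule.quotEquivOfEq _ _ h2).restrictScalars A |>.length_eq] at h1
    have hirr : Irreducible (Ideal.span {q} : Ideal B) :=
      (Ideal.prime_of_isPrime hq0 ((Ideal.span_singleton_prime hq.ne_zero).mpr hq)).irreducible
    rw [h1, ← Ideal.span_singleton_mul_span_singleton, normalizedFactors_mul hq0 ha0,
      normalizedFactors_irreducible hirr, normalize_eq, Multiset.map_add, Multiset.sum_add,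
      Multiset.map_singleton, Multiset.sum_singleton, ih ha, add_comm]

/-- The colength of the different is the order of the discriminant. -/
theorem length_disc {K L : Type u} [Field K] [Field L] [Algebra A K] [Algebra B L] [Algebra K L]
    [Algebra A L] [IsScalarTower A K L] [IsScalarTower A B L] [IsFractionRing A K] [IsFractionRing B L]
    [FiniteDimensional K L] [Algebra.IsSeparable K L] {n : ℕ} (b : Module.Basis (Fin n) A B) :
    Module.length A (B ⧸ differentIdeal A B) = Ring.ord A (Algebra.discr A b) := by
  classical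
  haveI := isPID A (B := B)
  have one_ne : (1 : FractionalIdeal B⁰ L) ≠ 0 := one_ne_zero' (FractionalIdeal B⁰ L)
  haveI : IsIntegralClosure B A L := IsIntegralClosure.of_isIntegrallyClosed B A L
  haveI : IsLocalization (Algebra.algebraMapSubmonoid B A⁰) L := IsIntegralClosure.isLocalization A K L B
  haveI : Module.Free A B := Module.Free.of_basis b
  let bK : Module.Basis (Fin n) K L := b.localizationLocalization K A⁰ L
  have hbK : ∀ i, bK i = algebraMap B L (b i) := fun i => Module.Basis.localizationLocalization_apply K A⁰ L b i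
  obtain ⟨d, hd⟩ := (IsPrincipalIdealRing.principal (differentIdeal A B)).principal
  rw [← Ideal.span] at hd
  have hinj : Function.Injective (algebraMap A K) := IsFractionRing.injective A K
  have hdual : FractionalIdeal.dual A K (1 : FractionalIdeal B⁰ L) =
      FractionalIdeal.spanSingleton B⁰ (algebraMap B L d)⁻¹ := by
    rw [← FractionalIdeal.spanSingleton_inv, ← FractionalIdeal.coeIdeal_span_singleton, ← hd,
      coeIdeal_differentIdeal A K L B, inv_inv]
  have hd0 : algebraMap B L d ≠ 0 := fun h => by
    refine FractionalIdeal.dual_ne_zero A K one_ne ?_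
    rw [hdual, h, inv_zero, FractionalIdeal.spanSingleton_zero]
  have hspec : ∀ (w : B) (j : Fin n),
      ∃ a : A, algebraMap A K a = Algebra.trace K L (algebraMap B L w / algebraMap B L d * bK j) := by
    intro w j
    have hmem : algebraMap B L w / algebraMap B L d ∈ FractionalIdeal.dual A K (1 : FractionalIdeal B⁰ L) := by
      rw [hdual, FractionalIdeal.mem_spanSingleton]
      exact ⟨w, by rw [Algebra.smul_def, div_eq_mul_inv]⟩
    exact RingHom.mem_range.mp ((FractionalIdeal.mem_dual one_ne).mp hmem (bK j)
      ((FractionalIdeal.mem_one_iff _).mpr ⟨b j, (hbK j).symm⟩))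
  choose c hc using hspec
  let U : B →ₗ[A] (Fin n → A) :=
    { toFun := c
      map_add' := fun x y => funext fun j => hinj (by
        rw [Pi.add_apply, map_add, hc, hc, hc, map_add (algebraMap B L), add_div, add_mul,
          map_add (Algebra.trace K L)])
      map_smul' := fun r x => funext fun j => hinj (by
        rw [RingHom.id_apply, Pi.smul_apply, smul_eq_mul, map_mul, hc, hc]
        refine (congrArg (Algebra.trace K L) ?_).trans
          ((map_smul (Algebra.trace K L) (algebraMap A K r) _).trans (smul_eq_mul ..))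
        rw [Algebra.smul_def r x, map_mul, ← IsScalarTower.algebraMap_apply A B L,
          IsScalarTower.algebraMap_apply A K L, Algebra.smul_def]
        ring) }
  have hU : Function.Bijective U := by
    constructor
    · intro x y hxy
      have h1 : algebraMap B L x / algebraMap B L d = algebraMap B L y / algebraMap B L d := by
        refine bK.traceDual.repr.injective (Finsupp.ext fun j => ?_)
        rw [Module.Basis.traceDual_repr_apply, Module.Basis.traceDual_repr_apply,
          Algebra.traceForm_apply, Algebra.traceForm_apply, ← hc, ← hc]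
        exact congrArg (algebraMap A K) (congrFun hxy j)
      exact IsFractionRing.injective B L ((div_left_inj' hd0).mp h1)
    · intro v
      let z : L := ∑ i, algebraMap A K (v i) • bK.traceDual i
      have hz : ∀ j, Algebra.trace K L (z * bK j) = algebraMap A K (v j) := fun j => by
        simp only [z, Finset.sum_mul, map_sum, smul_mul_assoc, map_smul,
          Module.Basis.trace_traceDual_mul, smul_eq_mul, mul_ite, mul_one, mul_zero,
          Finset.sum_ite_eq, Finset.mem_univ, if_true]
      have hmem : z ∈ FractionalIdeal.dual A K (1 : FractionalIdeal B⁰ L) := by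
        rw [FractionalIdeal.mem_dual one_ne]
        intro a ha
        obtain ⟨w, rfl⟩ := (FractionalIdeal.mem_one_iff _).mp ha
        refine RingHom.mem_range.mpr ⟨∑ i, b.repr w i * v i, ?_⟩
        conv_rhs => rw [← b.sum_repr w]
        rw [Algebra.traceForm_apply, map_sum, map_sum, Finset.mul_sum, map_sum]
        refine Finset.sum_congr rfl fun i _ => ?_
        rw [Algebra.smul_def, map_mul (algebraMap B L), ← IsScalarTower.algebraMap_apply A B L,
          IsScalarTower.algebraMap_apply A K L, ← hbK, mul_left_comm, ← Algebra.smul_def, map_smul,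
          hz, smul_eq_mul, map_mul]
      rw [hdual, FractionalIdeal.mem_spanSingleton] at hmem
      obtain ⟨w, hw⟩ := hmem
      refine ⟨w, funext fun j => hinj ?_⟩
      rw [← hz j, ← hw, Algebra.smul_def, ← div_eq_mul_inv]
      exact hc w j
  let T : B →ₗ[A] (Fin n → A) := U ∘ₗ LinearMap.mulLeft A d
  let φ : (Fin n → A) →ₗ[A] (Fin n → A) := T ∘ₗ b.equivFun.symm.toLinearMap
  have hdet : LinearMap.det φ = Algebra.discr A b := by
    rw [← LinearMap.det_toMatrix', Algebra.discr_def, ← Matrix.det_transpose (Algebra.traceMatrix A b)]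
    congr 1
    ext j i
    rw [LinearMap.toMatrix'_apply, Matrix.transpose_apply, Algebra.traceMatrix_apply,
      Algebra.traceForm_apply]
    refine hinj ?_
    rw [← Algebra.trace_localization A A⁰ (Rₘ := K) (Sₘ := L), map_mul (algebraMap B L), ← hbK, ← hbK]
    simp only [φ, T, LinearMap.comp_apply, LinearEquiv.coe_coe, Module.Basis.equivFun_symm_apply,
      Pi.single_apply, ite_smul, one_smul, zero_smul, Finset.sum_ite_eq', Finset.mem_univ, if_true,
      LinearMap.mulLeft_apply]
    change algebraMap A K (c (d * b i) j) = _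
    rw [hc, map_mul (algebraMap B L), mul_comm (algebraMap B L d), mul_div_assoc, div_self hd0, mul_one, ← hbK]
  have hdne : Algebra.discr A b ≠ 0 := fun h => Algebra.discr_not_zero_of_basis K bK
    (by rw [Algebra.discr_localizationLocalization, h, map_zero])
  have h := Groth.Agent.S0612.result φ (hdet ▸ mem_nonZeroDivisors_of_ne_zero hdne)
  rw [hdet] at h
  rw [← h, hd]
  have hr : LinearMap.range φ = ((Ideal.span {d}).restrictScalars A).map U := by
    rw [LinearMap.range_comp_of_range_eq_top _ (LinearEquiv.range _), LinearMap.range_comp]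
    congr 1
    ext x
    simp [Ideal.mem_span_singleton, dvd_def, eq_comm]
  exact ((Submodule.Quotient.restrictScalarsEquiv A (Ideal.span {d})).symm.trans
    (Submodule.Quotient.equiv _ _ (LinearEquiv.ofBijective U hU) hr.symm)).length_eq

theorem toNat_sum {ι : Type*} (s : Finset ι) (g : ι → ℕ∞) (h : ∀ i ∈ s, g i ≠ ⊤) :
    (∑ i ∈ s, g i).toNat = ∑ i ∈ s, (g i).toNat := by
  have : ∑ i ∈ s, g i = ((∑ i ∈ s, (g i).toNat : ℕ) : ℕ∞) := by
    rw [Nat.cast_sum]
    exact Finset.sum_congr rfl fun i hi => (ENat.coe_toNat (h i hi)).symm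
  rw [this, ENat.toNat_natCast]

theorem length_residue_ne_top (Q : Ideal B) [Q.IsMaximal] : Module.length A (B ⧸ Q) ≠ ⊤ := by
  haveI := liesOver (A := A) Q
  letI := Ideal.Quotient.field (maximalIdeal A)
  haveI : Module.Finite (A ⧸ maximalIdeal A) (B ⧸ Q) := .of_restrictScalars_finite A _ _
  rw [Module.length_eq_of_surjective (R := A ⧸ maximalIdeal A) Ideal.Quotient.mk_surjective,
    Module.length_eq_finrank]
  exact ENat.natCast_ne_top _

open Classical in
/-- The colength of the different as a sum over the maximal ideals. -/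
theorem length_different [Algebra.IsSeparable (FractionRing A) (FractionRing B)] :
    (Module.length A (B ⧸ differentIdeal A B)).toNat =
      ∑ Q ∈ (finite_maximals A (B := B)).toFinset,
        (normalizedFactors (differentIdeal A B)).count Q * (Module.length A (B ⧸ Q)).toNat := by
  haveI := isPID A (B := B)
  obtain ⟨d, hd⟩ := (IsPrincipalIdealRing.principal (differentIdeal A B)).principal
  rw [← Ideal.span] at hd
  have hd0 : d ≠ 0 := fun h0 => differentIdeal_ne_bot (A := A) (B := B)
    (by rw [hd, h0, Ideal.span_singleton_eq_bot])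
  have hmax : ∀ Q ∈ (normalizedFactors (differentIdeal A B)).toFinset,
      Q ∈ (finite_maximals A (B := B)).toFinset := fun Q hQ => by
    have hp := prime_of_normalized_factor Q (Multiset.mem_toFinset.mp hQ)
    exact (finite_maximals A).mem_toFinset.mpr ((Ideal.isPrime_of_prime hp).isMaximal hp.ne_zero)
  have h1 : Module.length A (B ⧸ differentIdeal A B) =
      ∑ Q ∈ (finite_maximals A (B := B)).toFinset,
        ((normalizedFactors (differentIdeal A B)).count Q : ℕ∞) * Module.length A (B ⧸ Q) := by
    rw [hd, length_quot d hd0, ← hd, Finset.sum_multiset_map_count]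
    simp only [nsmul_eq_mul]
    exact Finset.sum_subset hmax fun Q _ hQ => by
      rw [Multiset.count_eq_zero_of_notMem (fun hm => hQ (Multiset.mem_toFinset.mpr hm)), Nat.cast_zero,
        zero_mul]
  rw [h1, toNat_sum _ _ fun Q hQ => by
    haveI : Q.IsMaximal := (finite_maximals A).mem_toFinset.mp hQ
    exact WithTop.mul_ne_top (ENat.natCast_ne_top _) (length_residue_ne_top Q)]
  exact Finset.sum_congr rfl fun Q _ => by rw [ENat.toNat_mul, ENat.toNat_natCast]

end HurwitzLib.Different
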