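import Groth.Agent.PBasisLib.Fields
import Mathlib.RingTheory.Smooth.Basic
import Mathlib.Algebra.TrivSqZeroExt.Basic
import Mathlib.FieldTheory.Separable
import Mathlib.RingTheory.LocalRing.ResidueField.Basic

/-!
# An inseparable element cannot be lifted to the first order neighbourhood of a smooth point
-/

set_option autoImplicit false
set_option linter.style.haveILetI false
universe u

open IsLocalRing Polynomial

namespace HurwitzLib

/-- An element with zero absolute differential is a `p`-th power. -/
theorem exists_pow_eq_of_D_eq_zero (p : ℕ) [Fact p.Prime] {K : Type u} [Field K] [CharP K p] {a : K}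
    (ha : KaehlerDifferential.D (⊥ : Subfield K) K a = 0) : ∃ b : K, b ^ p = a := by
  have h := Groth.Agent.PBasisLib.mem_adjoin_of_D_mem_span (A := (⊥ : Subfield K)) p (∅ : Set K) (a := a)
    (by rw [ha]; exact Submodule.zero_mem _)
  rw [Algebra.adjoin_empty, Algebra.mem_bot] at h
  obtain ⟨⟨c, hc⟩, rfl⟩ := h
  change ∃ b, b ^ p = c
  clear ha
  induction hc using Algebra.adjoin_induction with
  | mem t ht => obtain ⟨b, rfl⟩ := ht; exact ⟨b, rfl⟩
  | algebraMap m =>
    exact ⟨(m : K), (bot_le (a := RingHom.eqLocusField (frobenius K p) (RingHom.id K))) m.2⟩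
  | add _ _ _ _ h1 h2 =>
    obtain ⟨b1, rfl⟩ := h1
    obtain ⟨b2, rfl⟩ := h2
    exact ⟨b1 + b2, add_pow_char ..⟩
  | mul _ _ _ _ h1 h2 =>
    obtain ⟨b1, rfl⟩ := h1
    obtain ⟨b2, rfl⟩ := h2
    exact ⟨b1 * b2, mul_pow ..⟩

/-- A polynomial with zero derivative over a field, irreducible, has a coefficient with non-zero
absolute differential. -/
theorem exists_D_coeff_ne_zero {K : Type u} [Field K] {g : K[X]} (hg : Irreducible g)
    (hd : derivative g = 0) : ∃ i, KaehlerDifferential.D (⊥ : Subfield K) K (g.coeff i) ≠ 0 := by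
  obtain ⟨p, hp⟩ := CharP.exists K
  rcases CharP.char_is_prime_or_zero K p with hpr | rfl
  · haveI := Fact.mk hpr
    by_contra hall
    push Not at hall
    choose b hb using fun i => exists_pow_eq_of_D_eq_zero p (hall i)
    let g1 := contract p g
    have he : expand K p g1 = g := expand_contract p hd hpr.ne_zero
    have hlift : g1 ∈ Polynomial.lifts (frobenius K p) := by
      rw [Polynomial.lifts_iff_coeff_lifts]
      intro i
      exact ⟨b (i * p), by rw [frobenius_def, hb, coeff_contract hpr.ne_zero]⟩
    obtain ⟨h, hh⟩ := (Polynomial.mem_lifts _).mp hlift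
    have : g = h ^ p := by rw [← he, ← hh, ← map_frobenius_expand, map_expand]
    rw [this] at hg
    obtain ⟨m, rfl⟩ : ∃ m, p = m + 2 := ⟨p - 2, by have := hpr.two_le; omega⟩
    rcases hg.isUnit_or_isUnit (show h ^ (m + 2) = h * h ^ (m + 1) by ring) with hu | hu
    · exact hg.not_isUnit (hu.pow _)
    · exact hg.not_isUnit (((isUnit_pow_iff (Nat.succ_ne_zero m)).mp hu).pow _)
  · haveI : CharZero K := CharP.charP_to_charZero K
    exact absurd (natDegree_eq_zero_of_derivative_eq_zero hd) hg.natDegree_pos.ne'

open TrivSqZeroExt in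
/-- If `B` is local and formally smooth over a field `k` and `α` in the residue field is inseparable
over `k`, the minimal polynomial of `α` takes values outside `m²` at all lifts. -/
theorem aeval_minpoly_notMem_sq {k B : Type u} [Field k] [CommRing B] [IsLocalRing B] [Algebra k B]
    [Algebra.FormallySmooth k B] (P : B) (hint : IsIntegral k (residue B P))
    (hsep : ¬ (minpoly k (residue B P)).Separable) :
    aeval P (minpoly k (residue B P)) ∉ maximalIdeal B ^ 2 := by
  classical
  set α := residue B P with hα
  set g := minpoly k α with hgdef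
  have hd : derivative g = 0 := by
    by_contra h
    exact hsep ((separable_iff_derivative_ne_zero (minpoly.irreducible hint)).mpr h)
  obtain ⟨i₀, hi₀⟩ := exists_D_coeff_ne_zero (minpoly.irreducible hint) hd
  obtain ⟨φ, hφ⟩ := Module.Projective.exists_dual_ne_zero k hi₀
  let dk : Derivation (⊥ : Subfield k) k k := φ.compDer (KaehlerDifferential.D (⊥ : Subfield k) k)
  let ι := algebraMap k (ResidueField B)
  let θ : k →+* TrivSqZeroExt (ResidueField B) (ResidueField B) :=
    { toFun := fun c => inl (ι c) + inr (ι (dk c))
      map_one' := by ext <;> simp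
      map_mul' := fun a b => by
        ext
        · simp
        · simp [map_mul, Derivation.leibniz, mul_comm]
      map_zero' := by ext <;> simp
      map_add' := fun a b => by ext <;> simp [map_add]; }
  letI : Algebra k (TrivSqZeroExt (ResidueField B) (ResidueField B)) := θ.toAlgebra
  let π : TrivSqZeroExt (ResidueField B) (ResidueField B) →ₐ[k] ResidueField B :=
    { toRingHom := (fstHom (ResidueField B) (ResidueField B) (ResidueField B)).toRingHom
      commutes' := fun c => by
        change fst (θ c) = _
        simp [θ, ι] }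
  have hπ : Function.Surjective π := fun (r : ResidueField B) => ⟨inl r, TrivSqZeroExt.fst_inl (ResidueField B) r⟩
  have hker : IsNilpotent (RingHom.ker (π : TrivSqZeroExt (ResidueField B) (ResidueField B) →+* ResidueField B)) := by
    refine ⟨2, ?_⟩
    rw [Submodule.pow_succ, Submodule.pow_one]
    rw [Ideal.zero_eq_bot, eq_bot_iff, Ideal.mul_le]
    intro a ha b hb
    have ha' : fst a = 0 := ha
    have hb' : fst b = 0 := hb
    rw [Ideal.mem_bot]
    ext <;> simp [ha', hb']
  let res : B →ₐ[k] ResidueField B := IsScalarTower.toAlgHom k B (ResidueField B)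
  let ψ := Algebra.FormallySmooth.liftOfSurjective res π hπ hker
  have hψ : ∀ b, fst (ψ b) = residue B b := fun b =>
    Algebra.FormallySmooth.liftOfSurjective_apply res π hπ hker b
  have hsq : ∀ b ∈ maximalIdeal B ^ 2, ψ b = 0 := fun b hb => by
    rw [pow_two] at hb
    refine Submodule.mul_induction_on hb (fun x hx y hy => ?_) fun x y hx hy => by rw [map_add, hx, hy, add_zero]
    have hx' : fst (ψ x) = 0 := (hψ x).trans ((residue_eq_zero_iff x).mpr hx)
    have hy' : fst (ψ y) = 0 := (hψ y).trans ((residue_eq_zero_iff y).mpr hy)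
    rw [map_mul]
    ext <;> simp [hx', hy']
  intro hmem
  have h0 : snd (aeval (ψ P) g) = 0 := by rw [Polynomial.aeval_algHom_apply, hsq _ hmem, snd_zero]
  let h : k[X] := ∑ i ∈ Finset.range (g.natDegree + 1), monomial i (dk (g.coeff i))
  have hcoeff : ∀ i, h.coeff i = dk (g.coeff i) := fun i => by
    simp only [h, finset_sum_coeff, coeff_monomial, Finset.sum_ite_eq', Finset.mem_range]
    split
    · rfl
    · rw [coeff_eq_zero_of_natDegree_lt (by omega), map_zero]
  have hval : snd (aeval (ψ P) g) = aeval α h := by
    rw [aeval_eq_sum_range, aeval_eq_sum_range' (n := g.natDegree + 1) (p := h)]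
    · rw [TrivSqZeroExt.snd_sum]
      refine Finset.sum_congr rfl fun i _ => ?_
      rw [Algebra.smul_def, Algebra.smul_def, hcoeff, RingHom.algebraMap_toAlgebra, snd_mul, fst_pow,
        snd_pow, hψ, ← hα]
      have hz : ι (g.coeff i) * (i : ResidueField B) = 0 := by
        rcases i with _ | j
        · simp
        · have := congrArg (fun q : k[X] => ι (q.coeff j)) hd
          simpa [coeff_derivative, map_mul] using this
      simp only [θ, RingHom.coe_mk, MonoidHom.coe_mk, OneHom.coe_mk, fst_add, fst_inl, fst_inr, snd_add,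
        snd_inl, snd_inr, add_zero, zero_add, smul_eq_mul, MulOpposite.smul_eq_mul_unop,
        MulOpposite.unop_op, nsmul_eq_mul]
      rw [← mul_assoc (ι (g.coeff i)), hz, zero_mul, zero_add, mul_comm]
    · refine Nat.lt_succ_of_le (natDegree_le_iff_coeff_eq_zero.mpr fun i hi => ?_)
      rw [hcoeff, coeff_eq_zero_of_natDegree_lt hi, map_zero]
  rw [h0] at hval
  have hh : h ≠ 0 := fun hz => hφ (by
    have := hcoeff i₀
    rw [hz, coeff_zero] at this
    exact this.symm)
  have hdeg : h.natDegree < g.natDegree := by
    refine lt_of_le_of_ne (natDegree_le_iff_coeff_eq_zero.mpr fun i hi => by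
      rw [hcoeff, coeff_eq_zero_of_natDegree_lt hi, map_zero]) fun he => ?_
    have h1 : h.coeff g.natDegree = 0 := by
      rw [hcoeff, (minpoly.monic hint).coeff_natDegree, Derivation.map_one_eq_zero]
    rw [← he] at h1
    exact hh (leadingCoeff_eq_zero.mp h1)
  exact absurd (natDegree_le_of_dvd (minpoly.dvd k α hval.symm) hh) (not_le.mpr hdeg)

end HurwitzLib
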