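import Groth.Agent.HurwitzLib.Deg
import Mathlib.AlgebraicGeometry.Morphisms.IsIso

/-!
# A finite morphism whose direct image of functions is a line bundle
-/

set_option autoImplicit false
set_option linter.style.haveILetI false
universe u

open CategoryTheory CategoryTheory.Limits AlgebraicGeometry TopologicalSpace Opposite DevissLib QCohLib
open DetDegLib

namespace HurwitzLib

variable {k : Type u} [Field k] {X Y : Scheme.{u}} [Y.Over (Spec (CommRingCat.of k))]
  [IsProper (Y ↘ Spec (CommRingCat.of k))] [IsIntegral X] [IsIntegral Y] {f : X ⟶ Y} [IsFinite f]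

include k in
theorem isIso_of_locFree_one (e : f (genericPoint X) = genericPoint Y)
    (hM : FlatMod.IsFinLocFreeOfRank 1 ((Coh.push f).obj (Coh.structureModule X))) : IsIso f := by
  haveI : Coh.IsQCoh ((Coh.push f).obj (Coh.structureModule X)) := (CurvLib.isCoh_of_locFree hM).1
  choose V hV b hb using exists_good_affine (k := k) hM
  have hcov : (⨆ y : Y, (V y).1) = ⊤ := top_le_iff.mp fun y _ => Opens.mem_iSup.mpr ⟨y, hV y⟩
  rw [← MorphismProperty.isomorphisms.iff,
    HasAffineProperty.iff_of_iSup_eq_top (P := MorphismProperty.isomorphisms Scheme) V hcov]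
  intro y
  haveI : IsAffine (f ⁻¹ᵁ (V y).1 : Scheme.{u}) := (V y).2.preimage f
  refine ⟨inferInstance, (ConcreteCategory.isIso_iff_bijective _).mpr ?_⟩
  have hη : genericPoint Y ∈ (V y).1 :=
    ((genericPoint_spec Y).mem_open_set_iff (V y).1.isOpen).mpr ⟨y, trivial, hV y⟩
  have hbij := frame_bijective (V y).2 (b y) (hb y)
  have key : Function.Bijective (f.app (V y).1) := by
    refine ⟨app_injective e hη, fun s => ?_⟩
    obtain ⟨c, hc⟩ := hbij.2 (show Γ((Coh.push f).obj (Coh.structureModule X), (V y).1) from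
      (1 : Γ(X, f ⁻¹ᵁ (V y).1)))
    obtain ⟨d, hd⟩ := hbij.2 (show Γ((Coh.push f).obj (Coh.structureModule X), (V y).1) from
      s * (show Γ(X, f ⁻¹ᵁ (V y).1) from b y 0))
    dsimp only at hc hd
    rw [Fin.sum_univ_one] at hc hd
    have hc' : f.app (V y).1 (c 0) * (show Γ(X, f ⁻¹ᵁ (V y).1) from b y 0) = 1 := hc
    have hd' : f.app (V y).1 (d 0) * (show Γ(X, f ⁻¹ᵁ (V y).1) from b y 0) =
      s * (show Γ(X, f ⁻¹ᵁ (V y).1) from b y 0) := hd
    exact ⟨d 0, (IsUnit.of_mul_eq_one_right _ hc').mul_right_cancel hd'⟩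
  haveI : IsIso (f.app (V y).1) := (ConcreteCategory.isIso_iff_bijective _).mpr key
  have h : IsIso (f ∣_ (V y).1).appTop := by
    rw [Scheme.Hom.appTop, morphismRestrict_app]
    haveI : IsIso (f.app ((V y).1.ι ''ᵁ ⊤)) := by
      rw [show (V y).1.ι ''ᵁ ⊤ = (V y).1 from Scheme.Opens.ι_image_top _]
      infer_instance
    exact @IsIso.comp_isIso _ _ _ _ _ _ _ this (Functor.map_isIso _ _)
  exact ConcreteCategory.bijective_of_isIso _

end HurwitzLib
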