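import Groth.Agent.HurwitzLib.InsepSmooth
import Groth.Agent.HurwitzLib.Fiber
import Groth.Agent.S16548
import Groth.Agent.FibDimLib.Smooth
import Groth.Agent.FibDimLib.Comps
import Mathlib.RingTheory.RingHom.StandardSmooth
import Mathlib.RingTheory.Etale.Kaehler
import Mathlib.AlgebraicGeometry.Fiber

/-!
# The length of the relative differentials of a morphism of smooth curves at a point
-/

set_option autoImplicit false
set_option linter.style.haveILetI false
set_option linter.unusedSectionVars false
universe u

open IsLocalRing KaehlerDifferential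
open Groth.Agent.S16548 (subsingleton_of_span span_of_subsingleton)

namespace HurwitzLib

section LocalAlgebra

variable {k A B : Type u} [Field k] [CommRing A] [CommRing B] [IsLocalRing B] [Algebra k A] [Algebra k B]
  [Algebra A B] [IsScalarTower k A B]

theorem mem_span_comap (S : A) (hS : Submodule.span A {D k A S} = ⊤) (x : A) :
    ∃ c : A, D k B (algebraMap A B x) = algebraMap A B c • D k B (algebraMap A B S) := by
  obtain ⟨c, hc⟩ := Submodule.mem_span_singleton.mp (hS.ge (Submodule.mem_top : D k A x ∈ ⊤))
  refine ⟨c, ?_⟩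
  rw [← KaehlerDifferential.map_D k k A B x, ← hc, map_smul, KaehlerDifferential.map_D,
    algebraMap_smul B c]

/-- `Ω_B` is free on any generator. -/
theorem smul_D_injective [IsDomain B] [Algebra.FormallySmooth k B] (hnu : ¬ Algebra.FormallyUnramified k B)
    (T : B) (hT : Submodule.span B {D k B T} = ⊤) :
    Function.Injective fun r : B => r • D k B T := by
  let π : B →ₗ[B] Ω[B⁄k] := LinearMap.toSpanSingleton B _ (D k B T)
  have hπ : Function.Surjective π := fun z => Submodule.mem_span_singleton.mp (hT.ge Submodule.mem_top)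
  obtain ⟨σ, hσ⟩ := Module.projective_lifting_property π LinearMap.id hπ
  let e := σ (D k B T)
  have he : e • D k B T = D k B T := LinearMap.congr_fun hσ (D k B T)
  have hee : e * e = e := by
    have h := congrArg σ he
    rw [map_smul, smul_eq_mul] at h
    exact h
  have he1 : e = 1 := by
    rcases (IsIdempotentElem.iff_eq_zero_or_one.mp hee) with h0 | h1
    · refine absurd ?_ hnu
      refine ⟨⟨fun x y => ?_⟩⟩
      have hD : D k B T = 0 := by rw [← he, h0, zero_smul]
      obtain ⟨a, rfl⟩ := hπ x
      obtain ⟨b, rfl⟩ := hπ y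
      simp [π, hD]
    · exact h1
  intro r r' h
  have h' := congrArg σ h
  simp only [map_smul, smul_eq_mul] at h'
  change r * e = r' * e at h'
  rwa [he1, mul_one, mul_one] at h'

/-- The module of relative differentials of two monogenic modules of differentials. -/
theorem omega_equiv (S : A) (hS : Submodule.span A {D k A S} = ⊤) (T : B)
    (hT : Submodule.span B {D k B T} = ⊤) (hinj : Function.Injective fun r : B => r • D k B T)
    (a : B) (ha : D k B (algebraMap A B S) = a • D k B T) :
    Nonempty ((B ⧸ Ideal.span {a}) ≃ₗ[B] Ω[B⁄A]) := by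
  let π : B →ₗ[B] Ω[B⁄A] :=
    KaehlerDifferential.map k A B B ∘ₗ LinearMap.toSpanSingleton B _ (D k B T)
  have hπ : Function.Surjective π := (KaehlerDifferential.map_surjective k A B).comp
    fun z => Submodule.mem_span_singleton.mp (hT.ge Submodule.mem_top)
  have hker : LinearMap.ker π = Ideal.span {a} := by
    refine le_antisymm (fun r hr => ?_) ?_
    · have hr' : r • D k B T ∈ LinearMap.range (mapBaseChange k A B) := by
        rw [range_mapBaseChange]
        exact hr
      obtain ⟨t, ht⟩ := hr'
      have hmem : ∀ t, mapBaseChange k A B t ∈ Submodule.span B {a • D k B T} := by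
        intro t
        induction t with
        | zero => rw [map_zero]; exact zero_mem _
        | tmul c w =>
          rw [mapBaseChange_tmul]
          refine Submodule.smul_mem _ _ ?_
          obtain ⟨d, rfl⟩ := Submodule.mem_span_singleton.mp (hS.ge (Submodule.mem_top : w ∈ ⊤))
          rw [map_smul, map_D, ha, ← algebraMap_smul B d]
          exact Submodule.smul_mem _ _ (Submodule.subset_span rfl)
        | add x y hx hy => rw [map_add]; exact add_mem hx hy
      obtain ⟨c, hc⟩ := Submodule.mem_span_singleton.mp (ht ▸ hmem t)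
      rw [smul_smul] at hc
      exact Ideal.mem_span_singleton'.mpr ⟨c, hinj hc⟩
    · rw [Ideal.span, Submodule.span_le, Set.singleton_subset_iff, SetLike.mem_coe, LinearMap.mem_ker]
      change KaehlerDifferential.map k A B B (a • D k B T) = 0
      rw [← ha, KaehlerDifferential.map_D, Algebra.algebraMap_self, RingHom.id_apply,
        Derivation.map_algebraMap]
  exact ⟨(Submodule.quotEquivOfEq _ _ hker.symm).trans (π.quotKerEquivOfSurjective hπ)⟩

/-- Over a separable residue field the differential of a generator of the maximal ideal generates. -/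
theorem span_D_eq_top {R : Type u} [CommRing R] [IsLocalRing R] [Algebra k R] [Algebra.EssFiniteType k R]
    [Algebra.IsSeparable k (ResidueField R)] [Algebra.EssFiniteType k (ResidueField R)]
    (s : R) (hs : maximalIdeal R = Ideal.span {s}) : Submodule.span R {D k R s} = ⊤ := by
  haveI : Algebra.FormallyUnramified k (ResidueField R) := Algebra.FormallyUnramified.of_isSeparable _ _
  let N := Submodule.span R {D k R s} ⊔ maximalIdeal R • (⊤ : Submodule R Ω[R⁄k])
  suffices hN : ⊤ ≤ N by
    refine eq_top_iff.mpr (Submodule.le_of_le_smul_of_le_jacobson_bot Module.Finite.fg_top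
      (maximalIdeal_le_jacobson _) hN)
  have hsm : ∀ r ∈ maximalIdeal R, D k R r ∈ N := fun r hr => by
    rw [hs, Ideal.mem_span_singleton'] at hr
    obtain ⟨c, rfl⟩ := hr
    rw [Derivation.leibniz]
    refine add_mem (Submodule.mem_sup_left (Submodule.smul_mem _ _ (Submodule.subset_span rfl)))
      (Submodule.mem_sup_right (Submodule.smul_mem_smul ?_ Submodule.mem_top))
    rw [hs]
    exact Ideal.mem_span_singleton_self s
  have hker : ∀ z : R, residue R z = 0 → (N.mkQ ((D k R) z) : Ω[R⁄k] ⧸ N) = 0 := fun z hz =>
    (Submodule.Quotient.mk_eq_zero N).mpr (hsm z ((residue_eq_zero_iff z).mp hz))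
  have hann : ∀ (z : Ω[R⁄k] ⧸ N) (r : R), r ∈ maximalIdeal R → r • z = 0 := fun z r hr => by
    obtain ⟨z, rfl⟩ := Submodule.Quotient.mk_surjective _ z
    rw [← Submodule.Quotient.mk_smul]
    exact (Submodule.Quotient.mk_eq_zero N).mpr
      (Submodule.mem_sup_right (Submodule.smul_mem_smul hr Submodule.mem_top))
  choose lift hlift using IsLocalRing.residue_surjective (R := R)
  letI : SMul (ResidueField R) (Ω[R⁄k] ⧸ N) := ⟨fun c z => lift c • z⟩
  have hsmul : ∀ (r : R) (z : Ω[R⁄k] ⧸ N), residue R r • z = r • z := fun r z => by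
    change lift (residue R r) • z = r • z
    rw [← sub_eq_zero, ← sub_smul]
    exact hann z _ ((residue_eq_zero_iff _).mp (by rw [map_sub, hlift, sub_self]))
  letI : Module (ResidueField R) (Ω[R⁄k] ⧸ N) :=
    Function.Surjective.moduleLeft (residue R) IsLocalRing.residue_surjective hsmul
  haveI : IsScalarTower R (ResidueField R) (Ω[R⁄k] ⧸ N) := ⟨fun r c z => by
    obtain ⟨c, rfl⟩ := IsLocalRing.residue_surjective c
    rw [Algebra.smul_def, ResidueField.algebraMap_eq, ← map_mul (residue R), hsmul, hsmul, mul_smul]⟩
  haveI : IsScalarTower k (ResidueField R) (Ω[R⁄k] ⧸ N) := ⟨fun c d z => by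
    obtain ⟨d, rfl⟩ := IsLocalRing.residue_surjective d
    rw [← algebraMap_smul R c (residue R d), Algebra.smul_def, ResidueField.algebraMap_eq, ← map_mul (residue R), hsmul, hsmul,
      mul_smul, algebraMap_smul]⟩
  let δ₀ : ResidueField R → Ω[R⁄k] ⧸ N := fun c => N.mkQ (D k R (lift c))
  have hδ₀ : ∀ r, δ₀ (residue R r) = N.mkQ (D k R r) := fun r => by
    rw [← sub_eq_zero, ← map_sub, ← map_sub]
    exact hker _ (by rw [map_sub, hlift, sub_self])
  let δ : Derivation k (ResidueField R) (Ω[R⁄k] ⧸ N) := Derivation.mk'
    { toFun := δ₀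
      map_add' := fun a b => by
        obtain ⟨a, rfl⟩ := IsLocalRing.residue_surjective a
        obtain ⟨b, rfl⟩ := IsLocalRing.residue_surjective b
        rw [← map_add, hδ₀, hδ₀, hδ₀, map_add, map_add]
      map_smul' := fun c a => by
        obtain ⟨a, rfl⟩ := IsLocalRing.residue_surjective a
        rw [RingHom.id_apply, ← algebraMap_smul R c (residue R a), Algebra.smul_def,
          ResidueField.algebraMap_eq, ← map_mul (residue R), ← Algebra.smul_def, hδ₀, hδ₀,
          Derivation.map_smul, LinearMap.map_smul_of_tower] }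
    fun a b => by
      obtain ⟨a, rfl⟩ := IsLocalRing.residue_surjective a
      obtain ⟨b, rfl⟩ := IsLocalRing.residue_surjective b
      change δ₀ (residue R a * residue R b) = _ • δ₀ _ + _ • δ₀ _
      rw [← map_mul, hδ₀, hδ₀, hδ₀, Derivation.leibniz, map_add, map_smul, map_smul, hsmul, hsmul]
  intro z _
  have hz : z ∈ Submodule.span R (Set.range (D k R)) := by rw [span_range_derivation]; trivial
  refine (Submodule.span_le.mpr ?_) hz
  rintro _ ⟨r, rfl⟩
  refine (Submodule.Quotient.mk_eq_zero N).mp ?_
  have h0 : δ (residue R r) = 0 := by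
    rw [← δ.liftKaehlerDifferential_comp_D, Subsingleton.elim (D k (ResidueField R) (residue R r)) 0, map_zero]
  exact (hδ₀ r).symm.trans h0

end LocalAlgebra

section Core

variable {k A B : Type u} [Field k] [CommRing A] [IsDomain A] [IsDiscreteValuationRing A] [CommRing B]
  [IsDomain B] [IsDiscreteValuationRing B] [Algebra k A] [Algebra k B] [Algebra A B] [IsScalarTower k A B]
  [IsLocalHom (algebraMap A B)] [Algebra.EssFiniteType k A] [Algebra.EssFiniteType k B]
  [Algebra.FormallySmooth k B] [Module.Finite k (ResidueField A)] [Module.Finite k (ResidueField B)]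

theorem le_ord_of_mem {a : B} {n : ℕ} (h : a ∈ maximalIdeal B ^ n) : (n : ℕ∞) ≤ Ring.ord B a := by
  obtain ⟨π, hπ⟩ := IsDiscreteValuationRing.exists_irreducible B
  rw [hπ.maximalIdeal_eq, Ideal.span_singleton_pow, Ideal.mem_span_singleton] at h
  refine le_trans ?_ (Ring.ord_le_ord_of_dvd h)
  rw [Ring.ord_pow (mem_nonZeroDivisors_of_ne_zero hπ.ne_zero), Ring.ord_of_irreducible hπ]
  simp

/-- The length of `Ω_{B/A}` for a map of local rings of smooth curves. -/
theorem omega_length (hnu : ¬ Algebra.FormallyUnramified k B)
    (S : A) (hS : Submodule.span A {D k A S} = ⊤) (T : B) (hT : Submodule.span B {D k B T} = ⊤)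
    (hφ : Function.Injective (algebraMap A B)) (e : ℕ)
    (he : (Module.length B (B ⧸ (maximalIdeal A).map (algebraMap A B))).toNat = e) :
    ((e - 1 : ℕ) : ℕ∞) ≤ Module.length B Ω[B⁄A] ∧
      (Module.length B Ω[B⁄A] = ((e - 1 : ℕ) : ℕ∞) ↔
        Algebra.IsSeparable (ResidueField A) (ResidueField B) ∧ (e : ResidueField A) ≠ 0) := by
  classical
  obtain ⟨s, hs⟩ := IsDiscreteValuationRing.exists_irreducible A
  obtain ⟨π, hπ⟩ := IsDiscreteValuationRing.exists_irreducible B
  have hs0 : algebraMap A B s ≠ 0 := fun h => hs.ne_zero (hφ (h.trans (map_zero _).symm))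
  obtain ⟨e', u, hu⟩ := IsDiscreteValuationRing.eq_unit_mul_pow_irreducible hs0 hπ
  have hord : ∀ n : ℕ, Ring.ord B (π ^ n) = n := fun n => by
    rw [Ring.ord_pow (mem_nonZeroDivisors_of_ne_zero hπ.ne_zero), Ring.ord_of_irreducible hπ]
    simp
  have hee : e' = e := by
    rw [← he, hs.maximalIdeal_eq, Ideal.map_span, Set.image_singleton]
    change _ = (Ring.ord B (algebraMap A B s)).toNat
    rw [hu, Ring.ord_mul_of_isUnit_left u.isUnit, hord, ENat.toNat_natCast]
  subst hee
  have he1 : 1 ≤ e' := by
    by_contra h
    have h1 : IsUnit (algebraMap A B s) := by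
      rw [hu, show e' = 0 by omega, pow_zero, mul_one]
      exact u.isUnit
    exact hs.not_isUnit (IsLocalHom.map_nonunit s h1)
  have hinj := smul_D_injective hnu T hT
  haveI : Algebra.EssFiniteType k (ResidueField B) := inferInstance
  haveI : Algebra.EssFiniteType k (ResidueField A) := inferInstance
  haveI : IsScalarTower k (ResidueField A) (ResidueField B) := IsScalarTower.of_algebraMap_eq fun c => by
    change residue B (algebraMap k B c) = residue B (algebraMap A B (algebraMap k A c))
    rw [← IsScalarTower.algebraMap_apply]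
  haveI : Module.Finite (ResidueField A) (ResidueField B) := Module.Finite.of_restrictScalars_finite k _ _
  have key : ∀ (S' : A), Submodule.span A {D k A S'} = ⊤ → ∀ a : B,
      D k B (algebraMap A B S') = a • D k B T → Module.length B Ω[B⁄A] = Ring.ord B a := by
    intro S' hS' a ha
    obtain ⟨l⟩ := omega_equiv S' hS' T hT hinj a ha
    exact l.length_eq.symm
  have hcast : ((e' : ℕ) : ResidueField A) ≠ 0 ↔ IsUnit (e' : B) := by
    rw [← not_iff_not, not_not, ← mem_nonunits_iff, ← IsLocalRing.mem_maximalIdeal,
      ← residue_eq_zero_iff, map_natCast, ← map_natCast (algebraMap (ResidueField A) (ResidueField B)) e',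
      map_eq_zero_iff _ (algebraMap (ResidueField A) (ResidueField B)).injective]
  have hge : ∀ a : B, a ∈ maximalIdeal B ^ e' → ∀ {P : Prop}, ¬ P →
      Module.length B Ω[B⁄A] = Ring.ord B a →
      ((e' - 1 : ℕ) : ℕ∞) ≤ Module.length B Ω[B⁄A] ∧
        (Module.length B Ω[B⁄A] = ((e' - 1 : ℕ) : ℕ∞) ↔ P) := by
    intro a ha P hP hl
    have h1 : (e' : ℕ∞) ≤ Module.length B Ω[B⁄A] := hl ▸ le_ord_of_mem ha
    refine ⟨le_trans (by exact_mod_cast Nat.sub_le e' 1) h1, iff_of_false (fun h2 => ?_) hP⟩
    rw [h2] at h1
    have : e' ≤ e' - 1 := by exact_mod_cast h1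
    omega
  have hπm : π ∈ maximalIdeal B := hπ.not_isUnit
  by_cases hA : Algebra.IsSeparable k (ResidueField A)
  · haveI := hA
    have hS' := span_D_eq_top (k := k) s hs.maximalIdeal_eq
    by_cases hB : Algebra.IsSeparable k (ResidueField B)
    · haveI := hB
      have hπT := span_D_eq_top (k := k) π hπ.maximalIdeal_eq
      obtain ⟨c, hc⟩ := Submodule.mem_span_singleton.mp (hπT.ge (Submodule.mem_top : D k B (u : B) ∈ ⊤))
      obtain ⟨w, hw⟩ := Submodule.mem_span_singleton.mp (hT.ge (Submodule.mem_top : D k B π ∈ ⊤))
      have hwu : IsUnit w := by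
        obtain ⟨w', hw'⟩ := Submodule.mem_span_singleton.mp (hπT.ge (Submodule.mem_top : D k B T ∈ ⊤))
        refine IsUnit.of_mul_eq_one w' (hinj ?_)
        change (w * w') • D k B T = (1 : B) • D k B T
        rw [mul_comm, mul_smul, hw, hw', one_smul]
      obtain ⟨m, rfl⟩ : ∃ m, e' = m + 1 := ⟨e' - 1, by omega⟩
      have hl := key s hS' (π ^ m * ((π * c + ((m + 1 : ℕ) : B) * u) * w)) (by
        rw [hu, Derivation.leibniz, Derivation.leibniz_pow, ← hc, ← hw, Nat.add_sub_cancel]
        simp only [← Nat.cast_smul_eq_nsmul B, smul_smul, smul_eq_mul, ← add_smul]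
        congr 1
        ring)
      by_cases hne : ((m + 1 : ℕ) : ResidueField A) ≠ 0
      · have hun : IsUnit ((π * c + ((m + 1 : ℕ) : B) * u) * w) := by
          refine IsUnit.mul ?_ hwu
          by_contra hnu'
          have h1 : ((m + 1 : ℕ) : B) * u ∈ maximalIdeal B :=
            (Ideal.add_mem_iff_right _ (Ideal.mul_mem_right c _ hπm)).mp hnu'
          exact h1 (((hcast).mp hne).mul u.isUnit)
        rw [hl, Ring.ord_mul_of_isUnit_right hun, hord, Nat.add_sub_cancel]
        exact ⟨le_rfl, iff_of_true rfl ⟨Algebra.isSeparable_tower_top_of_isSeparable k (ResidueField A)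
          (ResidueField B), hne⟩⟩
      · refine hge _ ?_ (fun h => hne h.2) hl
        rw [pow_succ]
        refine Ideal.mul_mem_mul (Ideal.pow_mem_pow hπm m) (Ideal.mul_mem_right w _ ?_)
        refine Ideal.add_mem _ (Ideal.mul_mem_right c _ hπm) (Ideal.mul_mem_right _ _ ?_)
        exact fun hun => hne ((hcast).mpr hun)
    · -- inseparable residue field upstairs
      have hO : ¬ Algebra.FormallyUnramified k (ResidueField B) := fun h =>
        hB ((Algebra.FormallyUnramified.iff_isSeparable k (ResidueField B)).mp h)
      obtain ⟨c, hc⟩ := Submodule.mem_span_singleton.mp (hT.ge (Submodule.mem_top : D k B π ∈ ⊤))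
      obtain ⟨c', hc'⟩ := Submodule.mem_span_singleton.mp (hT.ge (Submodule.mem_top : D k B (u : B) ∈ ⊤))
      have hcm : c ∈ maximalIdeal B := by
        intro hcu
        obtain ⟨v, rfl⟩ := hcu
        refine hO ⟨⟨fun x y => ?_⟩⟩
        let δ := KaehlerDifferential.map k k B (ResidueField B)
        have hδ : δ (D k B T) = 0 := by
          have h1 : δ (D k B π) = 0 := by
            rw [KaehlerDifferential.map_D, ResidueField.algebraMap_eq, (residue_eq_zero_iff π).mpr hπm, map_zero]
          rw [← hc, map_smul] at h1
          simpa using congrArg ((↑v⁻¹ : B) • ·) h1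
        obtain ⟨x, rfl⟩ := KaehlerDifferential.map_surjective_of_surjective k k B (ResidueField B)
          IsLocalRing.residue_surjective x
        obtain ⟨y, rfl⟩ := KaehlerDifferential.map_surjective_of_surjective k k B (ResidueField B)
          IsLocalRing.residue_surjective y
        obtain ⟨x, rfl⟩ := Submodule.mem_span_singleton.mp (hT.ge (Submodule.mem_top : x ∈ ⊤))
        obtain ⟨y, rfl⟩ := Submodule.mem_span_singleton.mp (hT.ge (Submodule.mem_top : y ∈ ⊤))
        rw [map_smul, map_smul, show KaehlerDifferential.map k k B (ResidueField B) (D k B T) = 0 from hδ,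
          smul_zero, smul_zero]
      obtain ⟨m, rfl⟩ : ∃ m, e' = m + 1 := ⟨e' - 1, by omega⟩
      have hl := key s hS' (π ^ m * (π * c' + ((m + 1 : ℕ) : B) * u * c)) (by
        rw [hu, Derivation.leibniz, Derivation.leibniz_pow, ← hc, ← hc', Nat.add_sub_cancel]
        simp only [← Nat.cast_smul_eq_nsmul B, smul_smul, smul_eq_mul, ← add_smul]
        congr 1
        ring)
      refine hge _ ?_ (fun h => hB ?_) hl
      · rw [pow_succ]
        exact Ideal.mul_mem_mul (Ideal.pow_mem_pow hπm m)
          (Ideal.add_mem _ (Ideal.mul_mem_right c' _ hπm) (Ideal.mul_mem_left _ _ hcm))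
      · haveI := h.1
        exact Algebra.IsSeparable.trans k (ResidueField A) (ResidueField B)
  · -- inseparable residue field downstairs: the index is one
    obtain ⟨α, hα⟩ : ∃ α : ResidueField A, ¬ (minpoly k α).Separable := by
      by_contra hall
      push Not at hall
      exact hA ⟨fun x => hall x⟩
    obtain ⟨P, rfl⟩ := IsLocalRing.residue_surjective α
    let q : ResidueField A →ₐ[k] ResidueField B := IsScalarTower.toAlgHom k _ _
    have hmin : minpoly k (residue B (algebraMap A B P)) = minpoly k (residue A P) :=
      minpoly.algHom_eq q (RingHom.injective _) (residue A P)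
    have he' : e' = 1 := by
      by_contra hne
      have hnm := aeval_minpoly_notMem_sq (k := k) (algebraMap A B P)
        (Algebra.IsIntegral.isIntegral _) (by rw [hmin]; exact hα)
      rw [hmin, Polynomial.aeval_algebraMap_apply] at hnm
      have hm : Polynomial.aeval P (minpoly k (residue A P)) ∈ maximalIdeal A := by
        rw [← residue_eq_zero_iff]
        exact (Polynomial.aeval_algHom_apply (IsScalarTower.toAlgHom k A (ResidueField A)) P _).symm.trans
          (minpoly.aeval k _)
      rw [hs.maximalIdeal_eq, Ideal.mem_span_singleton'] at hm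
      obtain ⟨r, hr⟩ := hm
      refine hnm ?_
      rw [← hr, map_mul, hu]
      refine Ideal.mul_mem_left _ _ (Ideal.mul_mem_left _ _ ?_)
      exact Ideal.pow_le_pow_right (show 2 ≤ e' by omega) (Ideal.pow_mem_pow hπm e')
    subst he'
    obtain ⟨a, ha⟩ := Submodule.mem_span_singleton.mp
      (hT.ge (Submodule.mem_top : D k B (algebraMap A B S) ∈ ⊤))
    have hl := key S hS a ha.symm
    rw [show ((1 - 1 : ℕ) : ℕ∞) = 0 from rfl]
    refine ⟨bot_le, ?_⟩
    simp only [Nat.cast_one, ne_eq, one_ne_zero, not_false_eq_true, and_true]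
    constructor
    · intro h0
      haveI : Subsingleton Ω[B⁄A] := Module.length_eq_zero_iff.mp h0
      haveI : Algebra.FormallyUnramified A B := ⟨inferInstance⟩
      haveI : Algebra.FormallyUnramified A (ResidueField B) :=
        Algebra.FormallyUnramified.of_surjective (IsScalarTower.toAlgHom A B (ResidueField B))
          IsLocalRing.residue_surjective
      haveI : IsScalarTower A (ResidueField A) (ResidueField B) := IsScalarTower.of_algebraMap_eq fun _ => rfl
      haveI : Algebra.FormallyUnramified (ResidueField A) (ResidueField B) :=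
        Algebra.FormallyUnramified.of_restrictScalars A _ _
      exact (Algebra.FormallyUnramified.iff_isSeparable _ _).mp inferInstance
    · intro hsep
      haveI := hsep
      rw [hl]
      refine Ring.ord_of_isUnit ?_
      by_contra hau
      haveI : Algebra.FormallyUnramified (ResidueField A) (ResidueField B) :=
        Algebra.FormallyUnramified.of_isSeparable _ _
      refine hA ((Algebra.FormallyUnramified.iff_isSeparable k (ResidueField A)).mp ?_)
      have hzero : ∀ x : A, D k (ResidueField B) (residue B (algebraMap A B x)) = 0 := fun x => by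
        obtain ⟨c, hc⟩ := mem_span_comap (B := B) S hS x
        rw [← ha, smul_smul] at hc
        have h1 := congrArg (KaehlerDifferential.map k k B (ResidueField B)) hc
        rw [map_smul, KaehlerDifferential.map_D, ← algebraMap_smul (ResidueField B),
          map_mul, show algebraMap B (ResidueField B) a = 0 from (residue_eq_zero_iff a).mpr hau,
          mul_zero, zero_smul] at h1
        exact h1
      haveI : Algebra.FormallyUnramified k (ResidueField B) := ⟨⟨fun x y => by
        have htop := span_of_subsingleton (k := k) (A := ResidueField A) (B := ResidueField B)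
        have hz : Submodule.span (ResidueField B) (Set.range fun c : ResidueField A =>
            D k (ResidueField B) (algebraMap (ResidueField A) (ResidueField B) c)) ≤ ⊥ := by
          rw [Submodule.span_le]
          rintro _ ⟨c, rfl⟩
          obtain ⟨c, rfl⟩ := IsLocalRing.residue_surjective c
          exact hzero c
        rw [htop] at hz
        rw [(Submodule.mem_bot _).mp (hz (Submodule.mem_top : x ∈ ⊤)),
          (Submodule.mem_bot _).mp (hz (Submodule.mem_top : y ∈ ⊤))]⟩⟩
      haveI : Algebra.IsSeparable k (ResidueField B) := (Algebra.FormallyUnramified.iff_isSeparable _ _).mp inferInstance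
      haveI : Algebra.IsSeparable k (ResidueField A) :=
        Algebra.isSeparable_tower_bot_of_isSeparable k (ResidueField A) (ResidueField B)
      exact Algebra.FormallyUnramified.of_isSeparable _ _

end Core

end HurwitzLib
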